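import Mathlib

/-!
Anisotropic quadratic maps between modules of exponent two which are equivariant for a group, and
a criterion for the existence of a singular vector.
-/

set_option autoImplicit false
set_option linter.unusedSectionVars false

namespace Cfsg.Agent.InvolTrans

/-- An equivariant anisotropic quadratic map together with an element fixing no nonzero value. -/
structure QuadDat (H W V : Type*) [Group H] [AddCommGroup W] [AddCommGroup V]
    [DistribMulAction H W] [DistribMulAction H V] where
  sq : W → V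
  x : H
  r : ℕ
  rpos : 0 < r
  twoW : ∀ u : W, u + u = 0
  twoV : ∀ v : V, v + v = 0
  anis : ∀ u : W, sq u = 0 → u = 0
  bil : ∀ u v w : W, sq (u + v + w) + sq (u + v) + sq w =
    (sq (u + w) + sq u + sq w) + (sq (v + w) + sq v + sq w)
  equiv : ∀ (h : H) (u : W), sq (h • u) = h • sq u
  norm : ∀ v : V, ∑ i ∈ Finset.range r, x ^ i • v = 0

variable {H W V : Type*} [Group H] [AddCommGroup W] [AddCommGroup V]
  [DistribMulAction H W] [DistribMulAction H V] (D : QuadDat H W V)

/-- The bilinear map attached to the quadratic map. -/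
def QuadDat.pol (u v : W) : V := D.sq (u + v) + D.sq u + D.sq v

theorem QuadDat.pol_comm (u v : W) : D.pol u v = D.pol v u := by
  rw [QuadDat.pol, QuadDat.pol, add_comm u v]; abel

theorem QuadDat.pol_add_left (u v w : W) : D.pol (u + v) w = D.pol u w + D.pol v w := D.bil u v w

theorem QuadDat.pol_add_right (u v w : W) : D.pol u (v + w) = D.pol u v + D.pol u w := by
  rw [D.pol_comm u, D.pol_add_left, D.pol_comm v, D.pol_comm w]

/-- The bilinear map as a homomorphism in its second argument. -/
def QuadDat.polHom (u : W) : W →+ V := AddMonoidHom.mk' (D.pol u) (D.pol_add_right u)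

theorem QuadDat.pol_zero (u : W) : D.pol u 0 = 0 := map_zero (D.polHom u)

theorem QuadDat.sq_zero : D.sq 0 = 0 := by
  have h : D.sq ((0 : W) + 0) + D.sq 0 + D.sq 0 = 0 := D.pol_zero 0
  rwa [add_zero, add_assoc, D.twoV, add_zero] at h

theorem QuadDat.pol_smul (h : H) (u v : W) : D.pol (h • u) (h • v) = h • D.pol u v := by
  rw [QuadDat.pol, QuadDat.pol, ← smul_add, D.equiv, D.equiv, D.equiv, smul_add, smul_add]

theorem QuadDat.sq_sum {ι : Type*} [DecidableEq ι] (s : Finset ι) (f : ι → W)
    (h : ∀ i ∈ s, ∀ j ∈ s, i ≠ j → D.pol (f i) (f j) = 0) :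
    D.sq (∑ i ∈ s, f i) = ∑ i ∈ s, D.sq (f i) := by
  induction s using Finset.induction_on with
  | empty => simp [D.sq_zero]
  | @insert a s ha ih =>
    rw [Finset.sum_insert ha, Finset.sum_insert ha,
      ← ih (fun i hi j hj => h i (Finset.mem_insert_of_mem hi) j (Finset.mem_insert_of_mem hj))]
    have h0 : D.polHom (f a) (∑ i ∈ s, f i) = 0 := by
      rw [map_sum]
      exact Finset.sum_eq_zero fun i hi => h a (Finset.mem_insert_self a s) i
        (Finset.mem_insert_of_mem hi) (fun e => ha (e ▸ hi))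
    change D.sq _ + D.sq (f a) + D.sq _ = 0 at h0
    rw [add_assoc] at h0
    rw [eq_neg_of_add_eq_zero_left h0]
    exact neg_eq_of_add_eq_zero_left (D.twoV _)

/-- The criterion: no vector is fixed by an operator which is transparent to the bilinear map and
kills the translates of the vector. -/
theorem QuadDat.no_vec (T : W →+ W) (u : W) (hu : u ≠ 0) (hT : T u = u)
    (hpol : ∀ w, D.pol u (T w) = D.pol u w)
    (hkill : ∀ i, 0 < i → i < D.r → T (D.x ^ i • u) = 0) : False := by
  set S := ∑ i ∈ Finset.range D.r, D.x ^ i • u with hS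
  have hTS : T S = u := by
    rw [hS, map_sum, Finset.sum_eq_single 0]
    · rw [pow_zero, one_smul, hT]
    · exact fun i hi h0 => hkill i (Nat.pos_of_ne_zero h0) (Finset.mem_range.mp hi)
    · exact fun h => absurd (Finset.mem_range.mpr D.rpos) h
  have horth : ∀ d, 0 < d → d < D.r → D.pol u (D.x ^ d • u) = 0 := fun d h0 hd => by
    rw [← hpol, hkill d h0 hd, D.pol_zero]
  have hpair : ∀ i j, i < j → j < D.r → D.pol (D.x ^ i • u) (D.x ^ j • u) = 0 := by
    intro i j hij hj
    rw [show D.x ^ j = D.x ^ i * D.x ^ (j - i) by rw [← pow_add]; congr 1; omega, mul_smul,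
      D.pol_smul, horth (j - i) (by omega) (by omega), smul_zero]
  have hsq : D.sq S = 0 := by
    rw [hS, D.sq_sum]
    · simp only [D.equiv]
      exact D.norm _
    · intro i hi j hj hne
      rcases Nat.lt_or_gt_of_ne hne with h | h
      · exact hpair i j h (Finset.mem_range.mp hj)
      · rw [D.pol_comm]; exact hpair j i h (Finset.mem_range.mp hi)
  exact hu (by rw [← hTS, D.anis S hsq, map_zero])

/-- The sum over the powers of an element. -/
def orbSum (g : H) (n : ℕ) : W →+ W :=
  ∑ k ∈ Finset.range n, DistribSMul.toAddMonoidHom W (g ^ k)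

theorem orbSum_apply (g : H) (n : ℕ) (w : W) :
    orbSum g n w = ∑ k ∈ Finset.range n, g ^ k • w := by
  simp [orbSum]

/-- The sum over a subgroup. -/
noncomputable def grpSum [Finite H] (A : Subgroup H) : W →+ W :=
  haveI := Fintype.ofFinite A
  ∑ a : A, DistribSMul.toAddMonoidHom W (a : H)

variable [Finite H]

theorem grpSum_apply (A : Subgroup H) [Fintype A] (w : W) : grpSum A w = ∑ a : A, (a : H) • w := by
  rw [grpSum, AddMonoidHom.finsetSum_apply]
  refine Finset.sum_congr ?_ fun _ _ => rfl
  ext; simp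

theorem smul_grpSum {A : Subgroup H} {a : H} (ha : a ∈ A) (w : W) : a • grpSum A w = grpSum A w := by
  haveI := Fintype.ofFinite A
  rw [grpSum_apply, Finset.smul_sum]
  exact Fintype.sum_equiv (Equiv.mulLeft (⟨a, ha⟩ : A)) _ _ fun b => (mul_smul a (b : H) w).symm

theorem odd_nsmul {M : Type*} [AddCommGroup M] (h2 : ∀ u : M, u + u = 0) {n : ℕ} (hn : Odd n) (u : M) :
    n • u = u := by
  obtain ⟨k, rfl⟩ := hn
  rw [add_nsmul, one_nsmul, mul_comm, mul_nsmul', two_nsmul, h2, nsmul_zero, zero_add]

theorem grpSum_fixed (h2 : ∀ u : W, u + u = 0) {A : Subgroup H} (hA : Odd (Nat.card A)) {w : W}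
    (hw : ∀ a ∈ A, a • w = w) : grpSum A w = w := by
  haveI := Fintype.ofFinite A
  rw [grpSum_apply, Finset.sum_congr rfl (fun (a : A) _ => hw (a : H) a.2), Finset.sum_const, Finset.card_univ,
    ← Nat.card_eq_fintype_card, odd_nsmul h2 hA]

theorem smul_grpSum_normalizing {A : Subgroup H} {g : H} (hg : ∀ a ∈ A, g * a * g⁻¹ ∈ A) (w : W) :
    g • grpSum A w = grpSum A (g • w) := by
  haveI := Fintype.ofFinite A
  rw [grpSum_apply, grpSum_apply, Finset.smul_sum]
  let f : A → A := fun a => ⟨g * a * g⁻¹, hg a a.2⟩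
  have hf : Function.Injective f := fun a b h => by
    have := congrArg Subtype.val h
    simpa [f] using this
  refine Fintype.sum_equiv (Equiv.ofBijective f (Finite.injective_iff_bijective.mp hf)) _ _ fun a => ?_
  rw [Equiv.ofBijective_apply, ← mul_smul, ← mul_smul]
  simp [f, mul_assoc]

theorem pol_orbSum {g : H} {n : ℕ} (hn : Odd n) {u : W} (hu : g • u = u) (hV : ∀ v : V, g • v = v)
    (w : W) : D.pol u (orbSum g n w) = D.pol u w := by
  have hk : ∀ k : ℕ, g ^ k • u = u ∧ ∀ v : V, g ^ k • v = v := by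
    intro k
    induction k with
    | zero => simp
    | succ k ih => exact ⟨by rw [pow_succ, mul_smul, hu, ih.1],
        fun v => by rw [pow_succ, mul_smul, hV, ih.2]⟩
  rw [orbSum_apply]
  show D.polHom u _ = _
  rw [map_sum]
  refine (Finset.sum_congr rfl (g := fun _ => D.pol u w) fun k _ => ?_).trans ?_
  · show D.pol u (g ^ k • w) = D.pol u w
    conv_lhs => rw [← (hk k).1]
    rw [D.pol_smul, (hk k).2]
  · rw [Finset.sum_const, Finset.card_range, odd_nsmul D.twoV hn]

theorem pol_grpSum {A : Subgroup H} (hA : Odd (Nat.card A)) {u : W} (hu : ∀ a ∈ A, a • u = u)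
    (hV : ∀ a ∈ A, ∀ v : V, a • v = v) (w : W) : D.pol u (grpSum A w) = D.pol u w := by
  haveI := Fintype.ofFinite A
  rw [grpSum_apply]
  show D.polHom u _ = _
  rw [map_sum]
  refine (Finset.sum_congr rfl (g := fun _ => D.pol u w) fun a _ => ?_).trans ?_
  · show D.pol u ((a : H) • w) = D.pol u w
    conv_lhs => rw [← hu a a.2]
    rw [D.pol_smul, hV a a.2]
  · rw [Finset.sum_const, Finset.card_univ, ← Nat.card_eq_fintype_card, odd_nsmul D.twoV hA]

end Cfsg.Agent.InvolTrans
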