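import Mathlib
import Cfsg.Agent.InvolTrans.Quadratic
import Cfsg.Agent.Core.Frattini

/-!
An elementary abelian two-group with an automorphism acting on it without fixed points cannot act
nontrivially on an odd group acting faithfully on the source of an anisotropic quadratic map.
-/

set_option autoImplicit false
set_option linter.unusedSectionVars false

namespace Cfsg.Agent.InvolTrans

open Subgroup

variable {H W V : Type*} [Group H] [Finite H] [AddCommGroup W] [AddCommGroup V]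
  [DistribMulAction H W] [DistribMulAction H V]

/-- The hypotheses of the configuration. -/
structure Conf (D : QuadDat H W V) (E Q : Subgroup H) (q : ℕ) : Prop where
  prime : D.r.Prime
  qprime : q.Prime
  qodd : Odd q
  xord : ∃ n : ℕ, D.x ^ D.r ^ n = 1
  ecomm : ∀ e ∈ E, ∀ f ∈ E, e * f = f * e
  esq : ∀ e ∈ E, e * e = 1
  enorm : ∀ e ∈ E, D.x * e * D.x⁻¹ ∈ E
  esurj : ∀ e ∈ E, ∃ f ∈ E, f⁻¹ * (D.x * f * D.x⁻¹) = e
  qgroup : IsPGroup q Q
  qx : ∀ a ∈ Q, D.x * a * D.x⁻¹ ∈ Q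
  qe : ∀ e ∈ E, ∀ a ∈ Q, e * a * e⁻¹ ∈ Q
  minimal : ∀ K ≤ Q, K ≠ Q → (∀ a ∈ K, D.x * a * D.x⁻¹ ∈ K) → (∀ e ∈ E, ∀ a ∈ K, e * a * e⁻¹ ∈ K) →
    ∀ e ∈ E, ∀ a ∈ K, e * a * e⁻¹ = a
  noncentral : ¬ ∀ e ∈ E, ∀ a ∈ Q, e * a * e⁻¹ = a
  qV : ∀ a ∈ Q, ∀ v : V, a • v = v
  eV : ∀ e ∈ E, ∀ v : V, e • v = v
  faithful : ∀ a ∈ Q, (∀ w : W, a • w = w) → a = 1

/-- The elements of `Q` fixed or inverted by each element of `E`, inverted by at least one. -/
def eigSet (E Q : Subgroup H) : Set H :=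
  {g | g ∈ Q ∧ (∀ e ∈ E, e * g * e⁻¹ = g ∨ e * g * e⁻¹ = g⁻¹) ∧ ∃ e ∈ E, e * g * e⁻¹ ≠ g}

/-- In a group of odd order a nontrivial element has an odd order. -/
theorem eq_one_of_sq {Q : Subgroup H} (hQ : Odd (Nat.card Q)) {g : H} (hg : g ∈ Q) (h : g * g = 1) : g = 1 := by
  have h1 := Subgroup.orderOf_dvd_natCard Q hg
  have h2 : orderOf g ∣ 2 := orderOf_dvd_of_pow_eq_one (by rw [pow_two]; exact h)
  exact orderOf_eq_one_iff.mp (Nat.eq_one_of_dvd_coprimes (Nat.coprime_two_left.mpr hQ) h2 h1)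

/-- Square roots in a subgroup of odd order. -/
theorem exists_sqrt {Q : Subgroup H} (hQ : Odd (Nat.card Q)) {g : H} (hg : g ∈ Q) :
    ∃ a ∈ Q, a * a = g ∧ ∀ b ∈ Q, b * b = g → b = a := by
  obtain ⟨k, hk⟩ := hQ
  have hone : ∀ b ∈ Q, b ^ (2 * k + 1) = 1 := fun b hb => by
    rw [← hk]; exact orderOf_dvd_iff_pow_eq_one.mp (Subgroup.orderOf_dvd_natCard Q hb)
  refine ⟨g ^ (k + 1), pow_mem hg _, ?_, fun b _ hb => ?_⟩
  · rw [← pow_add, show k + 1 + (k + 1) = 2 * k + 1 + 1 by ring, pow_succ, hone g hg, one_mul]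
  · subst hb
    rw [← pow_two, ← pow_mul, show 2 * (k + 1) = 2 * k + 1 + 1 by ring, pow_succ, hone b ‹_›, one_mul]

/-- The geometric mean of two elements of a subgroup of odd order. -/
theorem exists_mean {Q : Subgroup H} (hQ : Odd (Nat.card Q)) {g g' : H} (hg : g ∈ Q) (hg' : g' ∈ Q) :
    ∃ h ∈ Q, h * g⁻¹ * h = g' ∧ ∀ k ∈ Q, k * g⁻¹ * k = g' → k = h := by
  obtain ⟨a, ha, haa, -⟩ := exists_sqrt hQ hg
  obtain ⟨b, hb, hbb, hub⟩ := exists_sqrt hQ (Q.mul_mem (Q.mul_mem (Q.inv_mem ha) hg') (Q.inv_mem ha))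
  refine ⟨a * b * a, Q.mul_mem (Q.mul_mem ha hb) ha, ?_, fun k hk hkk => ?_⟩
  · rw [← haa]
    calc a * b * a * (a * a)⁻¹ * (a * b * a) = a * (b * b) * a := by group
      _ = g' := by rw [hbb]; group
  · have h1 : a⁻¹ * k * a⁻¹ = b := hub _ (Q.mul_mem (Q.mul_mem (Q.inv_mem ha) hk) (Q.inv_mem ha)) (by
      rw [← hkk, ← haa]; group)
    rw [← h1]; group

variable {D : QuadDat H W V} {E Q : Subgroup H} {q : ℕ}

theorem odd_card_Q (C : Conf D E Q q) {K : Subgroup H} (hK : K ≤ Q) : Odd (Nat.card K) := by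
  have := Fact.mk C.qprime
  obtain ⟨n, hn⟩ := IsPGroup.iff_card.mp (C.qgroup.to_le hK)
  rw [hn]
  exact C.qodd.pow

theorem einv (C : Conf D E Q q) {e : H} (he : e ∈ E) : e⁻¹ = e := inv_eq_of_mul_eq_one_right (C.esq e he)

theorem exists_eig (C : Conf D E Q q) : ∃ g, g ∈ eigSet E Q := by
  classical
  have hodd := odd_card_Q C (le_refl Q)
  obtain ⟨e1, he1, g0, hg0, hne⟩ : ∃ e ∈ E, ∃ a ∈ Q, e * a * e⁻¹ ≠ a := by
    by_contra h
    push Not at h
    exact C.noncentral h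
  suffices h : ∀ T : Finset H, (∀ t ∈ T, t ∈ E) → ∃ g ∈ Q, g ≠ 1 ∧ e1 * g * e1⁻¹ = g⁻¹ ∧
      ∀ t ∈ T, t * g * t⁻¹ = g ∨ t * g * t⁻¹ = g⁻¹ by
    haveI := Fintype.ofFinite H
    obtain ⟨g, hg, hg1, hinv, hall⟩ := h (Finset.univ.filter (· ∈ E)) (fun t ht => (Finset.mem_filter.mp ht).2)
    refine ⟨g, hg, fun e he => hall e (Finset.mem_filter.mpr ⟨Finset.mem_univ e, he⟩), e1, he1,
      fun hfix => hg1 (eq_one_of_sq hodd hg ?_)⟩
    rw [hfix] at hinv
    exact mul_eq_one_iff_eq_inv.mpr hinv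
  intro T
  induction T using Finset.induction_on with
  | empty =>
    intro _
    refine ⟨g0⁻¹ * (e1 * g0 * e1⁻¹), Q.mul_mem (Q.inv_mem hg0) (C.qe e1 he1 g0 hg0),
      fun h => hne (inv_mul_eq_one.mp h).symm, ?_, by simp⟩
    rw [einv C he1]
    have h1 := C.esq e1 he1
    calc e1 * (g0⁻¹ * (e1 * g0 * e1)) * e1 = e1 * g0⁻¹ * e1 * g0 * (e1 * e1) := by group
      _ = (g0⁻¹ * (e1 * g0 * e1))⁻¹ := by
        rw [h1, mul_one, mul_inv_rev, mul_inv_rev, mul_inv_rev, einv C he1, inv_inv]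
        group
  | @insert e T heT ih =>
    intro hT
    have he : e ∈ E := hT e (Finset.mem_insert_self e T)
    obtain ⟨g, hg, hg1, hinv, hall⟩ := ih (fun t ht => hT t (Finset.mem_insert_of_mem ht))
    by_cases hinve : e * g * e⁻¹ = g⁻¹
    · exact ⟨g, hg, hg1, hinv, fun t ht => by
        rcases Finset.mem_insert.mp ht with rfl | ht
        · exact Or.inr hinve
        · exact hall t ht⟩
    obtain ⟨h, hh, hheq, huniq⟩ := exists_mean hodd hg (C.qe e he g hg)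
    have hhne : h ≠ 1 := fun h1 => hinve (by rw [← hheq, h1]; group)
    have hpres : ∀ t ∈ E, (t * g * t⁻¹ = g → t * h * t⁻¹ = h) ∧ (t * g * t⁻¹ = g⁻¹ → t * h * t⁻¹ = h⁻¹) := by
      intro t ht
      have hc : t * e * t⁻¹ = e := by rw [C.ecomm t ht e he]; group
      refine ⟨fun ht' => huniq _ (C.qe t ht h hh) ?_, fun ht' => ?_⟩
      · calc t * h * t⁻¹ * g⁻¹ * (t * h * t⁻¹) = t * h * t⁻¹ * (t * g * t⁻¹)⁻¹ * (t * h * t⁻¹) := by rw [ht']
          _ = t * (h * g⁻¹ * h) * t⁻¹ := by group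
          _ = (t * e * t⁻¹) * (t * g * t⁻¹) * (t * e * t⁻¹)⁻¹ := by rw [hheq]; group
          _ = e * g * e⁻¹ := by rw [ht', hc]
      · refine inv_eq_iff_eq_inv.mp (huniq _ (Q.inv_mem (C.qe t ht h hh)) ?_)
        calc (t * h * t⁻¹)⁻¹ * g⁻¹ * (t * h * t⁻¹)⁻¹
            = (t * h * t⁻¹)⁻¹ * (t * g * t⁻¹) * (t * h * t⁻¹)⁻¹ := by rw [ht']
          _ = (t * (h * g⁻¹ * h) * t⁻¹)⁻¹ := by group
          _ = ((t * e * t⁻¹) * (t * g * t⁻¹) * (t * e * t⁻¹)⁻¹)⁻¹ := by rw [hheq]; group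
          _ = e * g * e⁻¹ := by rw [ht', hc]; group
    refine ⟨h, hh, hhne, (hpres e1 he1).2 hinv, fun t ht => ?_⟩
    rcases Finset.mem_insert.mp ht with rfl | ht
    · refine Or.inl (huniq _ (C.qe _ he h hh) ?_)
      have h3 : t * h * t⁻¹ * (t * g * t⁻¹)⁻¹ * (t * h * t⁻¹) = g := by
        calc _ = t * (h * g⁻¹ * h) * t⁻¹ := by group
          _ = (t * t) * g * (t * t)⁻¹ := by rw [hheq]; group
          _ = g := by rw [C.esq _ he]; group
      calc t * h * t⁻¹ * g⁻¹ * (t * h * t⁻¹)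
          = t * h * t⁻¹ * (t * h * t⁻¹ * (t * g * t⁻¹)⁻¹ * (t * h * t⁻¹))⁻¹ * (t * h * t⁻¹) := by rw [h3]
        _ = t * g * t⁻¹ := by group
    · rcases hall t ht with h' | h'
      · exact Or.inl ((hpres t (hT t (Finset.mem_insert_of_mem ht))).1 h')
      · exact Or.inr ((hpres t (hT t (Finset.mem_insert_of_mem ht))).2 h')

/-- An element normalises a subgroup which it maps into itself. -/
theorem conj_surj {K : Subgroup H} {y : H} (hy : ∀ a ∈ K, y * a * y⁻¹ ∈ K) :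
    ∀ a ∈ K, ∃ b ∈ K, y * b * y⁻¹ = a := by
  intro a ha
  have hinj : Function.Injective (fun b : K => (⟨y * b * y⁻¹, hy b b.2⟩ : K)) := fun b c h => by
    have := congrArg Subtype.val h
    simpa using this
  obtain ⟨b, hb⟩ := Finite.surjective_of_injective hinj ⟨a, ha⟩
  exact ⟨b, b.2, congrArg Subtype.val hb⟩

theorem pow_conj_mem {K : Subgroup H} {y : H} (hy : ∀ a ∈ K, y * a * y⁻¹ ∈ K) (i : ℕ) :
    ∀ a ∈ K, y ^ i * a * (y ^ i)⁻¹ ∈ K := by
  induction i with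
  | zero => intro a ha; simpa using ha
  | succ i ih =>
    intro a ha
    rw [pow_succ, show y ^ i * y * a * (y ^ i * y)⁻¹ = y ^ i * (y * a * y⁻¹) * (y ^ i)⁻¹ by group]
    exact ih _ (hy a ha)

/-- A set preserved by a power of `y` of exponent prime to the order of `y` is preserved by `y`. -/
theorem preserved_of_pow {S : Set H} {y : H} {i m : ℕ} (hm : y ^ m = 1) (hco : i.Coprime m) (hm0 : 1 < m)
    (h : ∀ a ∈ S, y ^ i * a * (y ^ i)⁻¹ ∈ S) : ∀ a ∈ S, y * a * y⁻¹ ∈ S := by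
  obtain ⟨k, -, hk⟩ := Nat.exists_mul_mod_eq_one_of_coprime hco hm0
  have hy : y = (y ^ i) ^ k := by
    rw [← pow_mul, ← Nat.mod_add_div (i * k) m, hk, pow_add, pow_one, pow_mul, hm, one_pow, mul_one]
  have hk' : ∀ j : ℕ, ∀ a ∈ S, (y ^ i) ^ j * a * ((y ^ i) ^ j)⁻¹ ∈ S := by
    intro j
    induction j with
    | zero => intro a ha; simpa using ha
    | succ j ih =>
      intro a ha
      rw [pow_succ (y ^ i), show (y ^ i) ^ j * y ^ i * a * ((y ^ i) ^ j * y ^ i)⁻¹ =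
        (y ^ i) ^ j * (y ^ i * a * (y ^ i)⁻¹) * ((y ^ i) ^ j)⁻¹ by group]
      exact ih _ (h a ha)
  intro a ha
  rw [hy]
  exact hk' k a ha

theorem preserved_of_pow' (C : Conf D E Q q) {S : Set H} {y : H} (hy : ∃ n : ℕ, y ^ D.r ^ n = 1) {i : ℕ}
    (hi0 : 0 < i) (hir : i < D.r) (h : ∀ a ∈ S, y ^ i * a * (y ^ i)⁻¹ ∈ S) : ∀ a ∈ S, y * a * y⁻¹ ∈ S := by
  obtain ⟨n, hn⟩ := hy
  refine preserved_of_pow (m := D.r ^ (n + 1)) (by rw [pow_succ, pow_mul, hn, one_pow]) ?_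
    (Nat.one_lt_pow n.succ_ne_zero C.prime.one_lt) h
  refine Nat.Coprime.pow_right _ (Nat.coprime_comm.mp (C.prime.coprime_iff_not_dvd.mpr fun hd => ?_))
  exact absurd (Nat.le_of_dvd hi0 hd) (by omega)

theorem eig_conj_x (C : Conf D E Q q) {g : H} (hg : g ∈ eigSet E Q) : D.x * g * D.x⁻¹ ∈ eigSet E Q := by
  obtain ⟨hgQ, hgen, e0, he0, hne⟩ := hg
  refine ⟨C.qx g hgQ, fun e he => ?_, D.x * e0 * D.x⁻¹, C.enorm e0 he0, fun h => hne ?_⟩
  · obtain ⟨f, hf, rfl⟩ := conj_surj C.enorm e he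
    rcases hgen f hf with h | h
    · left
      calc _ = D.x * (f * g * f⁻¹) * D.x⁻¹ := by group
        _ = _ := by rw [h]
    · right
      calc _ = D.x * (f * g * f⁻¹) * D.x⁻¹ := by group
        _ = _ := by rw [h]; group
  · have h' : D.x * (e0 * g * e0⁻¹) * D.x⁻¹ = D.x * g * D.x⁻¹ := by
      calc _ = D.x * e0 * D.x⁻¹ * (D.x * g * D.x⁻¹) * (D.x * e0 * D.x⁻¹)⁻¹ := by group
        _ = _ := h
    simpa using h'

theorem eig_inv (C : Conf D E Q q) {g : H} (hg : g ∈ eigSet E Q) : g⁻¹ ∈ eigSet E Q := by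
  obtain ⟨hgQ, hgen, e0, he0, hne⟩ := hg
  refine ⟨Q.inv_mem hgQ, fun e he => ?_, e0, he0, fun h => hne ?_⟩
  · rw [show e * g⁻¹ * e⁻¹ = (e * g * e⁻¹)⁻¹ by group]
    rcases hgen e he with h | h <;> rw [h]
    · exact Or.inl rfl
    · exact Or.inr rfl
  · rw [show e0 * g⁻¹ * e0⁻¹ = (e0 * g * e0⁻¹)⁻¹ by group] at h
    exact inv_injective h

theorem closure_eig (C : Conf D E Q q) : closure (eigSet E Q) = Q := by
  have hle : closure (eigSet E Q) ≤ Q := (closure_le Q).mpr fun g hg => hg.1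
  by_contra hne
  have hconj : ∀ y : H, (∀ g ∈ eigSet E Q, y * g * y⁻¹ ∈ eigSet E Q) →
      ∀ a ∈ closure (eigSet E Q), y * a * y⁻¹ ∈ closure (eigSet E Q) := by
    intro y hy a ha
    induction ha using closure_induction with
    | mem g hg => exact subset_closure (hy g hg)
    | one => simp
    | mul a b _ _ ha hb => simpa [mul_assoc] using mul_mem ha hb
    | inv a _ ha => simpa [mul_assoc] using inv_mem ha
  have hcen := C.minimal _ hle hne (hconj _ fun g hg => eig_conj_x C hg) fun e he => hconj e fun g hg => by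
    rcases hg.2.1 e he with h | h <;> rw [h]
    · exact hg
    · exact eig_inv C hg
  obtain ⟨g, hg⟩ := exists_eig C
  obtain ⟨e0, he0, hne0⟩ := hg.2.2
  exact hne0 (hcen e0 he0 g (subset_closure hg))

/-- The Frattini subgroup of `Q`, inside the ambient group. -/
def phi (Q : Subgroup H) : Subgroup H := (frattini Q).map Q.subtype

theorem phi_le (Q : Subgroup H) : phi Q ≤ Q := map_subtype_le _

theorem phi_conj {y : H} (hy : ∀ a ∈ Q, y * a * y⁻¹ ∈ Q) : ∀ a ∈ phi Q, y * a * y⁻¹ ∈ phi Q := by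
  let f : Q →* Q := MonoidHom.mk' (fun a => (⟨y * a * y⁻¹, hy a a.2⟩ : Q)) fun a b => Subtype.ext (by simp)
  have hf : Function.Surjective f := fun a => by
    obtain ⟨b, hb, hab⟩ := conj_surj hy a a.2
    exact ⟨⟨b, hb⟩, Subtype.ext hab⟩
  rintro _ ⟨a, ha, rfl⟩
  exact ⟨f a, Core.map_frattini_le_of_surjective hf ⟨a, ha, rfl⟩, rfl⟩

theorem pow_mem_phi (C : Conf D E Q q) {g : H} (hg : g ∈ Q) : g ^ q ∈ phi Q := by
  haveI := Fact.mk C.qprime
  exact ⟨_, Core.pow_mem_frattini C.qgroup ⟨g, hg⟩, rfl⟩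

theorem comm_mem_phi (C : Conf D E Q q) {g h : H} (hg : g ∈ Q) (hh : h ∈ Q) :
    g * h * g⁻¹ * h⁻¹ ∈ phi Q := by
  haveI := Fact.mk C.qprime
  haveI := C.qgroup.isNilpotent
  exact ⟨_, Core.commutator_le_frattini (commutator_mem_commutator (mem_top (⟨g, hg⟩ : Q))
    (mem_top (⟨h, hh⟩ : Q))), rfl⟩

theorem phi_fixed (C : Conf D E Q q) : ∀ e ∈ E, ∀ a ∈ phi Q, e * a * e⁻¹ = a := by
  refine C.minimal _ (phi_le Q) (fun heq => ?_) (phi_conj C.qx) fun e he => phi_conj (C.qe e he)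
  obtain ⟨g, hg⟩ := exists_eig C
  obtain ⟨e0, he0, hne0⟩ := hg.2.2
  have htop : frattini Q = ⊤ := by
    refine map_injective Q.subtype_injective ?_
    rw [← MonoidHom.range_eq_map, range_subtype]
    exact heq
  have hQ : ¬ (⊤ : Subgroup Q) ≤ (⊥ : Subgroup Q) := fun h => by
    have h1 : (⟨g, hg.1⟩ : Q) = 1 := mem_bot.mp (h (mem_top _))
    have h1' : g = 1 := congrArg Subtype.val h1
    subst h1'
    exact hne0 (by group)
  rcases IsCoatomic.eq_top_or_exists_le_coatom (⊥ : Subgroup Q) with h | ⟨M, hM, -⟩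
  · exact hQ h.ge
  · exact hM.1 (top_le_iff.mp (htop ▸ frattini_le_coatom hM))

theorem eig_pow (C : Conf D E Q q) {g : H} (hg : g ∈ eigSet E Q) : g ^ q = 1 := by
  obtain ⟨e0, he0, hne⟩ := hg.2.2
  refine eq_one_of_sq (odd_card_Q C le_rfl) (pow_mem hg.1 q) ?_
  have h1 := phi_fixed C e0 he0 _ (pow_mem_phi C hg.1)
  rw [← conj_pow, (hg.2.1 e0 he0).resolve_left hne, inv_pow] at h1
  exact mul_eq_one_iff_eq_inv.mpr h1.symm

theorem phi_central (C : Conf D E Q q) {a : H} (ha : a ∈ phi Q) {b : H} (hb : b ∈ Q) : Commute a b := by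
  have hodd := odd_card_Q C (le_refl Q)
  have key : ∀ g ∈ eigSet E Q, Commute g a := by
    intro g hg
    obtain ⟨e, he, hne⟩ := hg.2.2
    have hinv := (hg.2.1 e he).resolve_left hne
    set c := a * g * a⁻¹ * g⁻¹ with hc
    have hcphi : c ∈ phi Q := comm_mem_phi C (phi_le Q ha) hg.1
    have h1 : a * g⁻¹ * a⁻¹ * g = c := by
      have h := phi_fixed C e he c hcphi
      rw [hc, show e * (a * g * a⁻¹ * g⁻¹) * e⁻¹ =
        (e * a * e⁻¹) * (e * g * e⁻¹) * (e * a * e⁻¹)⁻¹ * (e * g * e⁻¹)⁻¹ by group,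
        phi_fixed C e he a ha, hinv, inv_inv] at h
      exact h
    have h2 : g * c * g⁻¹ = c⁻¹ := by
      calc _ = g * (a * g⁻¹ * a⁻¹ * g) * g⁻¹ := by rw [h1]
        _ = c⁻¹ := by rw [hc]; group
    have h3 : (g * g) * c * (g * g)⁻¹ = c := by
      calc _ = g * (g * c * g⁻¹) * g⁻¹ := by group
        _ = g * c⁻¹ * g⁻¹ := by rw [h2]
        _ = (g * c * g⁻¹)⁻¹ := by group
        _ = c := by rw [h2, inv_inv]
    obtain ⟨k, hk⟩ := C.qodd
    have hg' : g = (g * g) ^ (k + 1) := by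
      rw [← pow_two, ← pow_mul, show 2 * (k + 1) = 2 * k + 1 + 1 by ring, pow_succ, ← hk, eig_pow C hg, one_mul]
    have h4 : Commute g c := by
      rw [hg']
      exact Commute.pow_left (mul_inv_eq_iff_eq_mul.mp h3) _
    have hc1 : c = 1 := eq_one_of_sq hodd (phi_le Q hcphi) (by
      rw [h4.eq, mul_inv_cancel_right] at h2
      exact mul_eq_one_iff_eq_inv.mpr h2)
    rw [hc, mul_inv_eq_one, mul_inv_eq_iff_eq_mul] at hc1
    exact hc1.symm
  rw [← closure_eig C] at hb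
  induction hb using closure_induction with
  | mem g hg => exact (key g hg).symm
  | one => exact Commute.one_right a
  | mul x y _ _ hx hy => exact hx.mul_right hy
  | inv x _ hx => exact hx.inv_right

/-- Eigenelements with different kernels commute. -/
theorem eig_commute (C : Conf D E Q q) {g h : H} (hg : g ∈ eigSet E Q) (hh : h ∈ eigSet E Q) {e : H}
    (he : e ∈ E) (heg : e * g * e⁻¹ = g) (heh : e * h * e⁻¹ ≠ h) : Commute g h := by
  have hinv := (hh.2.1 e he).resolve_left heh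
  set c := g * h * g⁻¹ * h⁻¹ with hc
  have hcphi : c ∈ phi Q := comm_mem_phi C hg.1 hh.1
  have h1 : g * h⁻¹ * g⁻¹ * h = c := by
    have h' := phi_fixed C e he c hcphi
    rw [hc, show e * (g * h * g⁻¹ * h⁻¹) * e⁻¹ =
      (e * g * e⁻¹) * (e * h * e⁻¹) * (e * g * e⁻¹)⁻¹ * (e * h * e⁻¹)⁻¹ by group, heg, hinv, inv_inv] at h'
    exact h'
  have h2 : h * c * h⁻¹ = c⁻¹ := by
    calc _ = h * (g * h⁻¹ * g⁻¹ * h) * h⁻¹ := by rw [h1]
      _ = c⁻¹ := by rw [hc]; group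
  rw [← (phi_central C hcphi hh.1).eq, mul_inv_cancel_right] at h2
  have hc1 : c = 1 := eq_one_of_sq (odd_card_Q C le_rfl) (phi_le Q hcphi) (mul_eq_one_iff_eq_inv.mpr h2)
  rw [hc, mul_inv_eq_one, mul_inv_eq_iff_eq_mul] at hc1
  exact hc1

theorem comm_symm_kernel (C : Conf D E Q q) {g h : H} (hg : g ∈ eigSet E Q) (hh : h ∈ eigSet E Q)
    (hnc : ¬ Commute g h) {e : H} (he : e ∈ E) : e * g * e⁻¹ = g ↔ e * h * e⁻¹ = h :=
  ⟨fun hgf => by_contra fun hhf => hnc (eig_commute C hg hh he hgf hhf),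
   fun hhf => by_contra fun hgf => hnc (eig_commute C hh hg he hhf hgf).symm⟩

/-- The translates of an eigenelement have different kernels. -/
theorem exists_kernel_moved (C : Conf D E Q q) {g : H} (hg : g ∈ eigSet E Q) {i : ℕ} (hi0 : 0 < i)
    (hir : i < D.r) : ∃ e ∈ E, e * g * e⁻¹ = g ∧
      D.x ^ i * e * (D.x ^ i)⁻¹ * g * (D.x ^ i * e * (D.x ^ i)⁻¹)⁻¹ ≠ g := by
  by_contra hcon
  push Not at hcon
  let S : Set H := {e | e ∈ E ∧ e * g * e⁻¹ = g}
  have hpres : ∀ e ∈ S, D.x * e * D.x⁻¹ ∈ S :=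
    preserved_of_pow' C C.xord hi0 hir fun e he => ⟨pow_conj_mem C.enorm i e he.1, hcon e he.1 he.2⟩
  obtain ⟨e0, he0, hne⟩ := hg.2.2
  obtain ⟨f, hf, hfe⟩ := C.esurj e0 he0
  have hxf := C.enorm f hf
  have hsurj : ∀ a ∈ S, ∃ b ∈ S, D.x * b * D.x⁻¹ = a := by
    intro a ha
    have hinj : Function.Injective (fun b : S => (⟨D.x * b * D.x⁻¹, hpres b b.2⟩ : S)) := fun b c h => by
      have := congrArg Subtype.val h
      exact Subtype.ext (by simpa using this)
    obtain ⟨b, hb⟩ := Finite.surjective_of_injective hinj ⟨a, ha⟩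
    exact ⟨b, b.2, congrArg Subtype.val hb⟩
  apply hne
  rw [← hfe, show f⁻¹ * (D.x * f * D.x⁻¹) * g * (f⁻¹ * (D.x * f * D.x⁻¹))⁻¹ =
    f⁻¹ * (D.x * f * D.x⁻¹ * g * (D.x * f * D.x⁻¹)⁻¹) * f⁻¹⁻¹ by group, einv C hf, einv C hf]
  by_cases hfg : f * g * f⁻¹ = g
  · rw [(hpres f ⟨hf, hfg⟩).2]
    nth_rw 2 [← einv C hf]
    exact hfg
  · have hinv := (hg.2.1 f hf).resolve_left hfg
    have hxne : D.x * f * D.x⁻¹ * g * (D.x * f * D.x⁻¹)⁻¹ ≠ g := fun h => by
      obtain ⟨b, hb, hbx⟩ := hsurj _ ⟨hxf, h⟩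
      have : b = f := by simpa using hbx
      exact hfg (this ▸ hb.2)
    rw [(hg.2.1 _ hxf).resolve_left hxne]
    nth_rw 2 [← einv C hf]
    rw [show f * g⁻¹ * f⁻¹ = (f * g * f⁻¹)⁻¹ by group, hinv, inv_inv]

theorem eig_commute_translate (C : Conf D E Q q) {g h : H} (hg : g ∈ eigSet E Q) (hh : h ∈ eigSet E Q)
    (hker : ∀ e ∈ E, e * g * e⁻¹ = g ↔ e * h * e⁻¹ = h) {i : ℕ} (hi0 : 0 < i) (hir : i < D.r) :
    Commute g ((D.x ^ i)⁻¹ * h * D.x ^ i) := by
  obtain ⟨e, he, heg, hne⟩ := exists_kernel_moved C hg hi0 hir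
  have hmem : D.x ^ i * e * (D.x ^ i)⁻¹ ∈ E := pow_conj_mem C.enorm i e he
  have hne' : D.x ^ i * e * (D.x ^ i)⁻¹ * h * (D.x ^ i * e * (D.x ^ i)⁻¹)⁻¹ ≠ h :=
    fun h' => hne ((hker _ hmem).mpr h')
  have hi' : (D.x ^ i)⁻¹ * h * D.x ^ i ∈ eigSet E Q := by
    obtain ⟨n, hn⟩ := C.xord
    have hinv : (D.x ^ i)⁻¹ = (D.x ^ i) ^ (D.r ^ n - 1) := by
      refine inv_eq_of_mul_eq_one_right ?_
      rw [← pow_succ', Nat.sub_add_cancel (Nat.one_le_pow _ _ C.prime.pos), ← pow_mul, mul_comm, pow_mul, hn,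
        one_pow]
    have hall : ∀ j : ℕ, D.x ^ j * h * (D.x ^ j)⁻¹ ∈ eigSet E Q := by
      intro j
      induction j with
      | zero => simpa using hh
      | succ j ih =>
        rw [pow_succ', show D.x * D.x ^ j * h * (D.x * D.x ^ j)⁻¹ = D.x * (D.x ^ j * h * (D.x ^ j)⁻¹) * D.x⁻¹ by group]
        exact eig_conj_x C ih
    have := hall (i * (D.r ^ n - 1))
    rw [pow_mul, ← hinv, inv_inv] at this
    exact this
  refine eig_commute C hg hi' he heg fun h' => hne' ?_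
  calc _ = D.x ^ i * (e * ((D.x ^ i)⁻¹ * h * D.x ^ i) * e⁻¹) * (D.x ^ i)⁻¹ := by group
    _ = h := by rw [h']; group

theorem smul_orbSum_fixed {a : H} {n : ℕ} (hn : a ^ n = 1) (w : W) :
    a • orbSum a n w = orbSum a n w := by
  rw [orbSum_apply, Finset.smul_sum]
  simp only [← mul_smul, ← pow_succ']
  have h1 := Finset.sum_range_succ' (fun k => a ^ k • w) n
  have h2 := Finset.sum_range_succ (fun k => a ^ k • w) n
  rw [h2, hn, pow_zero] at h1
  exact (add_right_cancel h1).symm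

theorem smul_orbSum_comm {a b : H} {n : ℕ} (h : Commute b a) (w : W) :
    b • orbSum a n w = orbSum a n (b • w) := by
  rw [orbSum_apply, orbSum_apply, Finset.smul_sum]
  exact Finset.sum_congr rfl fun k _ => by rw [← mul_smul, ← mul_smul, (h.pow_right k).eq]

theorem orbSum_comm {a b : H} {n m : ℕ} (h : Commute b a) (w : W) :
    orbSum b m (orbSum a n w) = orbSum a n (orbSum b m w) := by
  rw [orbSum_apply b, orbSum_apply b, map_sum]
  exact Finset.sum_congr rfl fun k _ => smul_orbSum_comm (h.pow_left k) w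

/-- A vector killed by all the sums over the lines of a group of type `(q, q)` is zero. -/
theorem eq_zero_of_lines (h2 : ∀ u : W, u + u = 0) {q : ℕ} (hqp : q.Prime) (hqo : Odd q) {a b : H}
    (hab : Commute a b) (hb : b ^ q = 1) {v : W} (h1 : orbSum b q v = 0)
    (h3 : ∀ j < q, orbSum (a * b ^ j) q v = 0) : v = 0 := by
  have hsum : ∑ j ∈ Finset.range q, orbSum (a * b ^ j) q v = 0 :=
    Finset.sum_eq_zero fun j hj => h3 j (Finset.mem_range.mp hj)
  simp only [orbSum_apply, (hab.pow_right _).mul_pow, mul_smul, ← pow_mul] at hsum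
  rw [Finset.sum_comm] at hsum
  simp only [← Finset.smul_sum] at hsum
  rw [Finset.sum_eq_single 0] at hsum
  · simpa [odd_nsmul h2 hqo] using hsum
  · intro k hk hk0
    have hcop : k.Coprime q := (Nat.coprime_comm.mp (hqp.coprime_iff_not_dvd.mpr fun hd =>
      absurd (Nat.le_of_dvd (Nat.pos_of_ne_zero hk0) hd) (by have := Finset.mem_range.mp hk; omega)))
    haveI : NeZero q := ⟨hqp.pos.ne'⟩
    have hval : ∀ j : ℕ, b ^ (j * k) = b ^ ((j : ZMod q) * (k : ZMod q)).val := by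
      intro j
      rw [← Nat.cast_mul, ZMod.val_natCast, ← pow_eq_pow_mod _ hb]
    have hre : ∀ f : ℕ → W, ∑ j ∈ Finset.range q, f j = ∑ j : ZMod q, f j.val := fun f =>
      Finset.sum_nbij' (fun j => (j : ZMod q)) ZMod.val (fun _ _ => Finset.mem_univ _)
        (fun j _ => Finset.mem_range.mpr j.val_lt) (fun j hj => ZMod.val_natCast_of_lt (Finset.mem_range.mp hj))
        (fun j _ => ZMod.natCast_zmod_val j) (fun j hj => by rw [ZMod.val_natCast_of_lt (Finset.mem_range.mp hj)])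
    rw [orbSum_apply, hre] at h1
    have hperm : ∑ j : ZMod q, b ^ (j * (k : ZMod q)).val • v = ∑ j : ZMod q, b ^ j.val • v := by
      let u := ZMod.unitOfCoprime k hcop
      exact Fintype.sum_equiv u.mulRight _ _ fun j => by simp [u, ZMod.coe_unitOfCoprime]
    have : ∑ j ∈ Finset.range q, b ^ (j * k) • v = 0 := by
      rw [hre]
      simp only [hval, ZMod.natCast_zmod_val]
      rw [hperm, h1]
    rw [this, smul_zero]
  · intro h; exact absurd (Finset.mem_range.mpr hqp.pos) h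

theorem grpSum_smul_mem {A : Subgroup H} (hA : ∀ a ∈ A, ∀ b ∈ A, a * b = b * a) {a : H} (ha : a ∈ A) (w : W) :
    grpSum A (a • w) = grpSum A w := by
  rw [← smul_grpSum_normalizing (fun b hb => by rw [hA a ha b hb, mul_inv_cancel_right]; exact hb),
    smul_grpSum ha]

theorem grpSum_grpSum {A K : Subgroup H} (hA : ∀ a ∈ A, ∀ b ∈ A, a * b = b * a) (hK : K ≤ A) {w : W}
    (hw : grpSum A w = 0) : grpSum A (grpSum K w) = 0 := by
  haveI := Fintype.ofFinite K
  rw [grpSum_apply K, map_sum]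
  exact Finset.sum_eq_zero fun k _ => by rw [grpSum_smul_mem hA (hK k.2), hw]

/-- A subgroup of `A` maximal with respect to fixing a nonzero vector without trace. -/
theorem exists_max_fixed (C : Conf D E Q q) {A : Subgroup H} (hA : A ≤ Q) (hne : A ≠ ⊥) :
    ∃ (K : Subgroup H) (u : W), K ≤ A ∧ K ≠ A ∧ u ≠ 0 ∧ grpSum A u = 0 ∧ (∀ k ∈ K, k • u = u) ∧
      ∀ a ∈ A, ∀ v : W, grpSum A v = 0 → (∀ k ∈ K, k • v = v) → a • v = v → v ≠ 0 → a ∈ K := by
  let good : Set (Subgroup H) := {K | K ≤ A ∧ ∃ v : W, v ≠ 0 ∧ grpSum A v = 0 ∧ ∀ k ∈ K, k • v = v}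
  obtain ⟨K, ⟨hKA, u, hu0, hu, hfix⟩, hmax⟩ := Set.Finite.exists_maximal (Set.toFinite good) (by
    obtain ⟨a, ha, ha1⟩ := A.bot_or_exists_ne_one.resolve_left hne
    obtain ⟨w, hw⟩ : ∃ w : W, a • w ≠ w := by
      by_contra h
      push Not at h
      exact ha1 (C.faithful a (hA ha) h)
    refine ⟨⊥, bot_le, w + grpSum A w, fun h => hw ?_, ?_, ?_⟩
    · have hwe : w = grpSum A w :=
        (eq_neg_of_add_eq_zero_left h).trans (neg_eq_of_add_eq_zero_left (D.twoW _))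
      rw [hwe]
      exact smul_grpSum ha w
    · rw [map_add, grpSum_fixed D.twoW (odd_card_Q C hA) fun b hb => smul_grpSum hb w, D.twoW]
    · intro k hk
      rw [mem_bot.mp hk, one_smul])
  refine ⟨K, u, hKA, fun h => hu0 ?_, hu0, hu, hfix, fun a ha v hv hKv hav hv0 => ?_⟩
  · subst h
    rw [← grpSum_fixed D.twoW (odd_card_Q C hA) hfix, hu]
  · have hle := hmax (y := K ⊔ zpowers a) ⟨sup_le hKA (zpowers_le.mpr ha), v, hv0, hv, fun k hk => by
      have hsub : K ⊔ zpowers a ≤ MulAction.stabilizer H v :=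
        sup_le (fun b hb => hKv b hb) (zpowers_le.mpr hav)
      exact hsub hk⟩ le_sup_left
    exact hle (le_sup_right (a := K) (mem_zpowers a))

/-- A subgroup maximal with respect to fixing a vector is preserved by the element `y`. -/
theorem stable_of_max (D' : QuadDat H W V) {E Q : Subgroup H} {q : ℕ} (C : Conf D E Q q) (hr : D'.r = D.r)
    (hord : ∃ n : ℕ, D'.x ^ D.r ^ n = 1) {A K : Subgroup H} {u : W} (hA : A ≤ Q)
    (hAc : ∀ a ∈ A, ∀ b ∈ A, a * b = b * a) (hAy : ∀ a ∈ A, D'.x * a * D'.x⁻¹ ∈ A) (hKA : K ≤ A)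
    (hu0 : u ≠ 0) (hu : grpSum A u = 0) (hfix : ∀ k ∈ K, k • u = u)
    (hmax : ∀ a ∈ A, ∀ v : W, grpSum A v = 0 → (∀ k ∈ K, k • v = v) → a • v = v → v ≠ 0 → a ∈ K) :
    ∀ k ∈ K, D'.x * k * D'.x⁻¹ ∈ K := by
  by_contra hcon
  refine D'.no_vec (grpSum K) u hu0 (grpSum_fixed D.twoW (odd_card_Q C (hKA.trans hA)) hfix)
    (fun w => pol_grpSum D' (odd_card_Q C (hKA.trans hA)) hfix (fun a ha => C.qV a (hA (hKA ha))) w) ?_
  intro i hi0 hir
  by_contra hv
  refine hcon (preserved_of_pow' C (S := (K : Set H)) hord hi0 (hr ▸ hir) fun k hk => ?_)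
  have hki : D'.x ^ i * k * (D'.x ^ i)⁻¹ ∈ A := pow_conj_mem hAy i k (hKA hk)
  refine hmax _ hki _ ?_ (fun a ha => smul_grpSum ha _) ?_ hv
  · refine grpSum_grpSum hAc hKA ?_
    rw [← smul_grpSum_normalizing (pow_conj_mem hAy i), hu, smul_zero]
  · rw [smul_grpSum_normalizing (fun a ha => by rw [hAc _ hki a (hKA ha), mul_inv_cancel_right]; exact ha)]
    rw [← mul_smul, inv_mul_cancel_right, mul_smul, hfix k hk]

theorem max_invariant (C : Conf D E Q q) {A K : Subgroup H} {u : W} (hA : A ≤ Q)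
    (hAc : ∀ a ∈ A, ∀ b ∈ A, a * b = b * a) (hAx : ∀ a ∈ A, D.x * a * D.x⁻¹ ∈ A)
    (hAe : ∀ e ∈ E, ∀ a ∈ A, e * a * e⁻¹ ∈ A) (hKA : K ≤ A)
    (hu0 : u ≠ 0) (hu : grpSum A u = 0) (hfix : ∀ k ∈ K, k • u = u)
    (hmax : ∀ a ∈ A, ∀ v : W, grpSum A v = 0 → (∀ k ∈ K, k • v = v) → a • v = v → v ≠ 0 → a ∈ K) :
    (∀ k ∈ K, D.x * k * D.x⁻¹ ∈ K) ∧ ∀ e ∈ E, ∀ k ∈ K, e * k * e⁻¹ ∈ K := by
  have h0 := stable_of_max D C rfl C.xord hA hAc hAx hKA hu0 hu hfix hmax
  refine ⟨h0, fun e he => ?_⟩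
  have hxe : ∀ i : ℕ, ∃ c ∈ E, (D.x * e) ^ i = D.x ^ i * c := by
    intro i
    induction i with
    | zero => exact ⟨1, one_mem E, by simp⟩
    | succ i ih =>
      obtain ⟨c, hc, hci⟩ := ih
      obtain ⟨c', hc', hcc⟩ := conj_surj C.enorm c hc
      refine ⟨c' * e, mul_mem hc' he, ?_⟩
      rw [pow_succ, pow_succ, hci, ← hcc]
      group
  have hpow : ∀ i : ℕ, ∀ v : V, (D.x * e) ^ i • v = D.x ^ i • v := fun i v => by
    obtain ⟨c, hc, hci⟩ := hxe i
    rw [hci, mul_smul, C.eV c hc]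
  have hord : ∃ n : ℕ, (D.x * e) ^ D.r ^ n = 1 := by
    obtain ⟨n, hn⟩ := C.xord
    obtain ⟨c, hc, hci⟩ := hxe (D.r ^ n)
    rw [hn, one_mul] at hci
    refine ⟨n, ?_⟩
    have hcx : D.x * c * D.x⁻¹ = c := by
      have h1 : Commute (D.x * e) c := hci ▸ Commute.self_pow _ _
      have h2 : Commute e c := C.ecomm e he c hc
      have h3 : Commute (D.x * e * e⁻¹) c := h1.mul_left h2.inv_left
      rw [mul_inv_cancel_right] at h3
      rw [h3.eq, mul_inv_cancel_right]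
    have hinj : Function.Injective
        (fun f : E => (⟨(f : H)⁻¹ * (D.x * f * D.x⁻¹), mul_mem (inv_mem f.2) (C.enorm f f.2)⟩ : E)) :=
      Finite.injective_iff_surjective.mpr fun a => by
        obtain ⟨f, hf, hfa⟩ := C.esurj a a.2
        exact ⟨⟨f, hf⟩, Subtype.ext hfa⟩
    have hceq : (⟨c, hc⟩ : E) = 1 := hinj (Subtype.ext (by simp [hcx]))
    rw [hci, show c = 1 from congrArg Subtype.val hceq]
  let D' : QuadDat H W V := { D with x := D.x * e, norm := fun v => by simp only [hpow]; exact D.norm v }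
  have h1 : ∀ k ∈ K, D.x * e * k * (D.x * e)⁻¹ ∈ K := stable_of_max D' C rfl hord hA hAc (fun a ha => by
    show D.x * e * a * (D.x * e)⁻¹ ∈ A
    rw [show D.x * e * a * (D.x * e)⁻¹ = D.x * (e * a * e⁻¹) * D.x⁻¹ by group]
    exact hAx _ (hAe e he a ha)) hKA hu0 hu hfix hmax
  intro k hk
  obtain ⟨b, hb, hbx⟩ := conj_surj h0 _ (h1 k hk)
  have : b = e * k * e⁻¹ := by
    have h' : D.x * b * D.x⁻¹ = D.x * (e * k * e⁻¹) * D.x⁻¹ := by rw [hbx]; group
    simpa using h'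
  exact this ▸ hb

theorem commutative_case (C : Conf D E Q q) (hc : ∀ g ∈ eigSet E Q, ∀ h ∈ eigSet E Q, Commute g h) : False := by
  have hQc : ∀ a ∈ Q, ∀ b ∈ Q, a * b = b * a := by
    intro a ha b hb
    rw [← closure_eig C] at ha hb
    induction ha, hb using closure_induction₂ with
    | mem a b ha hb => exact (hc a ha b hb).eq
    | one_left b _ => simp
    | one_right a _ => simp
    | mul_left x y z _ _ _ h1 h2 => exact (Commute.mul_left h1 h2).eq
    | mul_right x y z _ _ _ h1 h2 => exact (Commute.mul_right h1 h2).eq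
    | inv_left x y _ _ h => exact (Commute.inv_left h).eq
    | inv_right x y _ _ h => exact (Commute.inv_right h).eq
  obtain ⟨g1, hg1⟩ := exists_eig C
  have hne : Q ≠ ⊥ := fun h => by
    obtain ⟨e0, he0, hne0⟩ := hg1.2.2
    have : g1 = 1 := mem_bot.mp (h ▸ hg1.1)
    subst this
    exact hne0 (by group)
  obtain ⟨K, u, hKQ, hKne, hu0, hu, hfix, hmax⟩ := exists_max_fixed C (le_refl Q) hne
  obtain ⟨hKx, hKe⟩ := max_invariant C le_rfl hQc C.qx C.qe hKQ hu0 hu hfix hmax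
  have hcen := C.minimal K hKQ hKne hKx hKe
  obtain ⟨g, hg, hgK⟩ : ∃ g ∈ eigSet E Q, g ∉ K := by
    by_contra h
    push Not at h
    exact hKne (le_antisymm hKQ (by rw [← closure_eig C, closure_le]; exact h))
  set g' := D.x * g * D.x⁻¹ with hg'def
  have hg' : g' ∈ eigSet E Q := eig_conj_x C hg
  have hvan : ∀ a ∈ Q, a ^ q = 1 → a ∉ K → orbSum a q u = 0 := by
    intro a ha haq haK
    by_contra hv
    refine haK (hmax a ha _ ?_ (fun k hk => ?_) (smul_orbSum_fixed haq u) hv)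
    · rw [orbSum_apply, map_sum]
      exact Finset.sum_eq_zero fun k _ => by rw [grpSum_smul_mem hQc (pow_mem ha k), hu]
    · rw [smul_orbSum_comm (hQc k (hKQ hk) a ha), hfix k hk]
  have hline : ∃ j : ℕ, g' * g ^ j ∈ K := by
    by_contra h
    push Not at h
    refine hu0 (eq_zero_of_lines D.twoW C.qprime C.qodd (hc g' hg' g hg) (eig_pow C hg)
      (hvan g hg.1 (eig_pow C hg) hgK) fun j _ => hvan _ (mul_mem hg'.1 (pow_mem hg.1 j)) ?_ (h j))
    rw [((hc g' hg' g hg).pow_right j).mul_pow, eig_pow C hg', ← pow_mul, mul_comm, pow_mul, eig_pow C hg,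
      one_pow, one_mul]
  obtain ⟨j, hj⟩ := hline
  obtain ⟨e, he, heg, hne1⟩ := exists_kernel_moved C hg Nat.one_pos C.prime.one_lt
  rw [pow_one] at hne1
  obtain ⟨f, hf, hfg, hfg'⟩ : ∃ f ∈ E, f * g * f⁻¹ ≠ g ∧ f * g' * f⁻¹ = g' := by
    refine ⟨D.x * e * D.x⁻¹, C.enorm e he, hne1, ?_⟩
    calc _ = D.x * (e * g * e⁻¹) * D.x⁻¹ := by rw [hg'def]; group
      _ = g' := by rw [heg]
  have hfj : g ^ j = (g ^ j)⁻¹ := by
    have h1 := hcen f hf _ hj
    rw [show f * (g' * g ^ j) * f⁻¹ = f * g' * f⁻¹ * (f * g * f⁻¹) ^ j by rw [conj_pow]; group,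
      hfg', (hg.2.1 f hf).resolve_left hfg, inv_pow] at h1
    exact (mul_left_cancel h1).symm
  have hgj : g ^ j = 1 := eq_one_of_sq (odd_card_Q C le_rfl) (pow_mem hg.1 j) (mul_eq_one_iff_eq_inv.mpr hfj)
  rw [hgj, mul_one] at hj
  obtain ⟨e2, he2, hne2⟩ := hg'.2.2
  exact hne2 (hcen e2 he2 g' hj)

theorem comm_pow_left {g h z : H} (hz : g * h * g⁻¹ * h⁻¹ = z) (hgz : Commute g z) (k : ℕ) :
    g ^ k * h * (g ^ k)⁻¹ = z ^ k * h := by
  induction k with
  | zero => simp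
  | succ k ih =>
    calc g ^ (k + 1) * h * (g ^ (k + 1))⁻¹ = g * (g ^ k * h * (g ^ k)⁻¹) * g⁻¹ := by
          rw [pow_succ']; group
      _ = (g * z ^ k * g⁻¹) * (g * h * g⁻¹ * h⁻¹) * h := by rw [ih]; group
      _ = z ^ (k + 1) * h := by rw [hz, (hgz.pow_right k).eq, mul_inv_cancel_right, pow_succ]

theorem noncommutative_case (C : Conf D E Q q) (hc : ¬ ∀ g ∈ eigSet E Q, ∀ h ∈ eigSet E Q, Commute g h) :
    False := by
  classical
  set A := closure {z : H | ∃ g ∈ eigSet E Q, ∃ h ∈ eigSet E Q, g * h * g⁻¹ * h⁻¹ = z}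
  have hAphi : A ≤ phi Q := (closure_le _).mpr fun z ⟨g, hg, h, hh, hz⟩ => hz ▸ comm_mem_phi C hg.1 hh.1
  have hAQ : A ≤ Q := hAphi.trans (phi_le Q)
  have hAcen : ∀ a ∈ A, ∀ b ∈ Q, a * b = b * a := fun a ha b hb => (phi_central C (hAphi ha) hb).eq
  have hAc : ∀ a ∈ A, ∀ b ∈ A, a * b = b * a := fun a ha b hb => hAcen a ha b (hAQ hb)
  have hAconj : ∀ y : H, (∀ g ∈ eigSet E Q, y * g * y⁻¹ ∈ eigSet E Q) → ∀ a ∈ A, y * a * y⁻¹ ∈ A := by
    intro y hy a ha
    induction ha using closure_induction with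
    | mem z hz =>
      obtain ⟨g, hg, h, hh, rfl⟩ := hz
      exact subset_closure ⟨_, hy g hg, _, hy h hh, by group⟩
    | one => simp
    | mul a b _ _ ha hb => simpa [mul_assoc] using mul_mem ha hb
    | inv a _ ha => simpa [mul_assoc] using inv_mem ha
  have hAne : A ≠ ⊥ := by
    push Not at hc
    obtain ⟨g, hg, h, hh, hgh⟩ := hc
    intro hA
    refine hgh ?_
    have hmem : g * h * g⁻¹ * h⁻¹ ∈ A := subset_closure ⟨g, hg, h, hh, rfl⟩
    rw [hA, mem_bot, mul_inv_eq_one, mul_inv_eq_iff_eq_mul] at hmem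
    exact hmem
  obtain ⟨K, u, hKA, hKne, hu0, hu, hfix, hmax⟩ := exists_max_fixed C hAQ hAne
  obtain ⟨hKx, -⟩ := max_invariant C hAQ hAc (hAconj _ fun g hg => eig_conj_x C hg)
    (fun e he => hAconj e fun g hg => by
      rcases hg.2.1 e he with h | h <;> rw [h]
      · exact hg
      · exact eig_inv C hg) hKA hu0 hu hfix hmax
  obtain ⟨g, hg, h, hh, hzK⟩ : ∃ g ∈ eigSet E Q, ∃ h ∈ eigSet E Q, g * h * g⁻¹ * h⁻¹ ∉ K := by
    by_contra hcon
    push Not at hcon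
    exact hKne (le_antisymm hKA ((closure_le _).mpr fun z ⟨g, hg, h, hh, hz⟩ => hz ▸ hcon g hg h hh))
  obtain ⟨z, hz⟩ : ∃ z, g * h * g⁻¹ * h⁻¹ = z := ⟨_, rfl⟩
  have hzA : z ∈ A := subset_closure ⟨g, hg, h, hh, hz⟩
  have hgz : Commute g z := (hAcen z hzA g hg.1).symm
  have hzq : z ^ q = 1 := by
    have h1 := comm_pow_left hz hgz q
    rw [eig_pow C hg, one_mul, inv_one, mul_one] at h1
    exact mul_eq_right.mp h1.symm
  have hnc : ¬ Commute g h := fun hcm => hzK (by rw [hcm.eq, mul_inv_cancel_right, mul_inv_cancel]; exact K.one_mem)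
  let tr : ℕ → H → H := fun i a => (D.x ^ i)⁻¹ * a * D.x ^ i
  have hzK' : ∀ i, tr i z ∉ K := fun i hm => hzK (by
    have := pow_conj_mem hKx i _ hm
    rw [hz]
    simpa [tr, mul_assoc] using this)
  have hQtr : ∀ i, ∀ a ∈ Q, tr i a ∈ Q := fun i a ha => by
    obtain ⟨b, hb, rfl⟩ := conj_surj (pow_conj_mem C.qx i) a ha
    simpa [tr, mul_assoc] using hb
  have hAtr : ∀ i, ∀ a ∈ A, tr i a ∈ A := fun i a ha => by
    obtain ⟨b, hb, rfl⟩ := conj_surj (pow_conj_mem (hAconj _ fun g hg => eig_conj_x C hg) i) a ha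
    simpa [tr, mul_assoc] using hb
  have trpow : ∀ i (a : H) (k : ℕ), tr i a ^ k = tr i (a ^ k) := fun i a k => by
    have := conj_pow (a := (D.x ^ i)⁻¹) (b := a) (i := k)
    rw [inv_inv] at this
    exact this
  have trcomm : ∀ i (a b : H), Commute a b → Commute (tr i a) (tr i b) := fun i a b hab => by
    show tr i a * tr i b = tr i b * tr i a
    calc _ = tr i (a * b) := by simp only [tr]; group
      _ = tr i (b * a) := by rw [hab.eq]
      _ = _ := by simp only [tr]; group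
  have hzu : ∀ i, orbSum (tr i z) q u = 0 := by
    intro i
    by_contra hv
    refine hzK' i (hmax _ (hAtr i z hzA) _ ?_ (fun k hk => ?_) (smul_orbSum_fixed ?_ u) hv)
    · rw [orbSum_apply, map_sum]
      exact Finset.sum_eq_zero fun k _ => by rw [grpSum_smul_mem hAc (pow_mem (hAtr i z hzA) k), hu]
    · rw [smul_orbSum_comm (hAc k (hKA hk) _ (hAtr i z hzA)), hfix k hk]
    · rw [trpow, hzq]; simp [tr]
  obtain ⟨j, hj, hv⟩ : ∃ j < q, orbSum (g * z ^ j) q u ≠ 0 := by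
    by_contra hcon
    push Not at hcon
    have h0 := hzu 0
    simp [tr] at h0
    exact hu0 (eq_zero_of_lines D.twoW C.qprime C.qodd hgz hzq h0 hcon)
  set g' := g * z ^ j with hg'
  have hg'Q : g' ∈ Q := mul_mem hg.1 (pow_mem (hAQ hzA) j)
  have hg'q : g' ^ q = 1 := by
    rw [hg', (hgz.pow_right j).mul_pow, eig_pow C hg, ← pow_mul, mul_comm, pow_mul, hzq, one_pow, one_mul]
  have hg'z : g' * h * g'⁻¹ * h⁻¹ = z := by
    have h1 : z ^ j * h = h * z ^ j := hAcen _ (pow_mem hzA j) h hh.1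
    calc g' * h * g'⁻¹ * h⁻¹ = g * (z ^ j * h) * (z ^ j)⁻¹ * g⁻¹ * h⁻¹ := by rw [hg']; group
      _ = g * h * g⁻¹ * h⁻¹ := by rw [h1]; group
      _ = z := hz
  have hcomm : ∀ i, 0 < i → i < D.r → Commute g' (tr i g') ∧ Commute g' (tr i h) := by
    intro i hi0 hir
    have hker := fun e (he : e ∈ E) => comm_symm_kernel C hg hh hnc he
    have h1 : Commute g (tr i g) := eig_commute_translate C hg hg (fun _ _ => Iff.rfl) hi0 hir
    have h2 : Commute g (tr i h) := eig_commute_translate C hg hh hker hi0 hir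
    have hzc : ∀ a ∈ Q, Commute (z ^ j) a := fun a ha => hAcen _ (pow_mem hzA j) a ha
    have h3 : tr i g' = tr i g * tr i (z ^ j) := by simp only [tr, hg']; group
    refine ⟨?_, (h2.mul_left (hzc _ (hQtr i h hh.1)))⟩
    rw [h3]
    exact (h1.mul_left (hzc _ (hQtr i g hg.1))).mul_right
      ((show Commute (tr i (z ^ j)) g' from hAcen _ (hAtr i _ (pow_mem hzA j)) g' hg'Q).symm)
  have hpair : ∀ i k, i < k → k < D.r → Commute (tr i g') (tr k g') ∧ Commute (tr i g') (tr k h) := by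
    intro i k hik hk
    obtain ⟨h1, h2⟩ := hcomm (k - i) (by omega) (by omega)
    have e : ∀ a, tr k a = tr i (tr (k - i) a) := fun a => by
      simp only [tr]
      rw [show D.x ^ k = D.x ^ (k - i) * D.x ^ i by rw [← pow_add]; congr 1; omega]
      group
    rw [e, e]
    exact ⟨trcomm i _ _ h1, trcomm i _ _ h2⟩
  have hpair' : ∀ i k, i < D.r → k < D.r → i ≠ k → Commute (tr i g') (tr k g') := by
    intro i k hi hk hne
    rcases Nat.lt_or_gt_of_ne hne with h | h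
    · exact (hpair i k h hk).1
    · exact (hpair k i h hi).1.symm
  have hmain : ∀ n, n ≤ D.r → ∃ v : W, v ≠ 0 ∧ g' • v = v ∧ (∀ i, orbSum (tr i z) q v = 0) ∧
      ∀ i, 0 < i → i < n → orbSum (tr i g') q v = 0 := by
    intro n
    induction n with
    | zero =>
      intro _
      refine ⟨_, hv, smul_orbSum_fixed hg'q u, fun i => ?_, fun i _ hi => absurd hi (by omega)⟩
      rw [orbSum_comm (show Commute (tr i z) g' from hAcen _ (hAtr i z hzA) g' hg'Q), hzu i, map_zero]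
    | succ n ih =>
      intro hn
      obtain ⟨v, hv0, hgv, hzv, hkill⟩ := ih (by omega)
      rcases Nat.eq_zero_or_pos n with rfl | hn0
      · exact ⟨v, hv0, hgv, hzv, fun i h1 h2 => absurd h2 (by omega)⟩
      set a := tr n g' with ha
      set b := tr n h with hb
      have haQ : a ∈ Q := hQtr n g' hg'Q
      have hbQ : b ∈ Q := hQtr n h hh.1
      by_cases hz0 : orbSum a q v = 0
      · exact ⟨v, hv0, hgv, hzv, fun i h1 h2 =>
          (Nat.lt_succ_iff_lt_or_eq.mp h2).elim (hkill i h1) (fun h => h ▸ hz0)⟩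
      obtain ⟨hca, hcb⟩ := hcomm n hn0 (by omega)
      set w := orbSum a q v with hw
      have hgw : g' • w = w := by rw [hw, smul_orbSum_comm hca, hgv]
      have hzw : ∀ i, orbSum (tr i z) q w = 0 := fun i => by
        rw [hw, orbSum_comm (show Commute (tr i z) a from hAcen _ (hAtr i z hzA) a haQ), hzv i, map_zero]
      have hkw : ∀ i, 0 < i → i < n → orbSum (tr i g') q w = 0 := fun i h1 h2 => by
        rw [hw, orbSum_comm (hpair i n h2 (by omega)).1, hkill i h1 h2, map_zero]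
      refine ⟨b • w, fun h0 => hz0 ((smul_eq_zero_iff_eq b).mp h0), ?_, fun i => ?_, fun i h1 h2 => ?_⟩
      · rw [← mul_smul, hcb.eq, mul_smul, hgw]
      · rw [← smul_orbSum_comm (show Commute b (tr i z) from (hAcen _ (hAtr i z hzA) b hbQ).symm),
          hzw i, smul_zero]
      · rcases Nat.lt_succ_iff_lt_or_eq.mp h2 with h2 | rfl
        · rw [← smul_orbSum_comm (hpair i n h2 (by omega)).2.symm, hkw i h1 h2, smul_zero]
        · have haz : a * b * a⁻¹ * b⁻¹ = tr i z := by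
            rw [ha, hb, ← hg'z]; simp only [tr]; group
          have haa : a ^ q = 1 := by rw [ha, trpow, hg'q]; simp [tr]
          have hstep : ∀ k : ℕ, a ^ k • b • w = b • tr i z ^ k • w := by
            intro k
            have h3 := comm_pow_left haz ((hAcen _ (hAtr i z hzA) a haQ : Commute (tr i z) a).symm) k
            have h4 : a ^ k • w = w := by
              have : a • w = w := smul_orbSum_fixed haa v
              exact (MulAction.stabilizer H w).pow_mem this k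
            have h5 : Commute b (tr i z ^ k) := (hAcen _ (pow_mem (hAtr i z hzA) k) b hbQ : Commute _ b).symm
            calc a ^ k • b • w = (a ^ k * b * (a ^ k)⁻¹) • (a ^ k • w) := by
                  rw [← mul_smul, ← mul_smul]; group
              _ = b • tr i z ^ k • w := by rw [h3, h4, ← h5.eq, mul_smul]
          rw [← ha, orbSum_apply]
          simp only [hstep]
          rw [← Finset.smul_sum, ← orbSum_apply, hzw i, smul_zero]
  obtain ⟨v, hv0, hgv, -, hkill⟩ := hmain D.r le_rfl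
  have hTfix : orbSum g' q v = v := by
    rw [orbSum_apply, Finset.sum_congr rfl (fun k _ =>
      (MulAction.stabilizer H v).pow_mem (show g' ∈ MulAction.stabilizer H v from hgv) k),
      Finset.sum_const, Finset.card_range, odd_nsmul D.twoW C.qodd]
  refine D.no_vec (orbSum g' q) v hv0 hTfix (pol_orbSum D C.qodd hgv (C.qV g' hg'Q)) fun i hi0 hir => ?_
  have h0 : D.x ^ i • orbSum (tr i g') q v = orbSum g' q (D.x ^ i • v) := by
    rw [orbSum_apply, orbSum_apply, Finset.smul_sum]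
    refine Finset.sum_congr rfl fun k _ => ?_
    rw [trpow, ← mul_smul, ← mul_smul]
    simp [tr, mul_assoc]
  rw [← h0, hkill i hi0 hir, smul_zero]

/-- The configuration is impossible. -/
theorem false_of_conf (C : Conf D E Q q) : False := by
  by_cases hc : ∀ g ∈ eigSet E Q, ∀ h ∈ eigSet E Q, Commute g h
  · exact commutative_case C hc
  · exact noncommutative_case C hc

end Cfsg.Agent.InvolTrans
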