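import Mathlib
import Cfsg.Agent.InvolTrans.Core
import Cfsg.Agent.Fusion.Critical
import Cfsg.Agent.Layer.PConstraint
import Cfsg.Agent.Core.MinimalNormal
import Cfsg.Agent.Coprime.Basic
import Cfsg.Agent.Core.Fitting

/-!
Solvable groups with one class of involutions: the Sylow two-subgroup is normal modulo the odd
core, unless it contains a single involution.
-/

set_option autoImplicit false
set_option linter.unusedSectionVars false

namespace Cfsg.Agent.InvolTrans

open Subgroup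
open scoped commutatorElement

variable {X : Type*} [Group X] [Finite X]

theorem conj_iterate_mul {g k d : X} (h1 : g * k * g⁻¹ = k * d) (h2 : g * d * g⁻¹ = d) (i : ℕ) :
    g ^ i * k * (g ^ i)⁻¹ = k * d ^ i := by
  induction i with
  | zero => simp
  | succ i ih =>
    calc g ^ (i + 1) * k * (g ^ (i + 1))⁻¹ = g * (g ^ i * k * (g ^ i)⁻¹) * g⁻¹ := by rw [pow_succ']; group
      _ = g * k * g⁻¹ * (g * d * g⁻¹) ^ i := by rw [ih, conj_pow]; group
      _ = k * d ^ (i + 1) := by rw [h1, h2, pow_succ', mul_assoc]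

/-- An element of odd order which moves `k` by a fixed element of two-power order fixes `k`. -/
theorem fixed_of_delta {g k d : X} (hodd : Odd (orderOf g)) (hd : ∃ n : ℕ, d ^ 2 ^ n = 1)
    (h1 : g * k * g⁻¹ = k * d) (h2 : g * d * g⁻¹ = d) : d = 1 := by
  have h := conj_iterate_mul h1 h2 (orderOf g)
  rw [pow_orderOf_eq_one, one_mul, inv_one, mul_one] at h
  have hd1 : d ^ orderOf g = 1 := mul_eq_left.mp h.symm
  obtain ⟨n, hn⟩ := hd
  exact orderOf_eq_one_iff.mp (Nat.eq_one_of_dvd_coprimes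
    (Nat.Coprime.pow_left n (Nat.coprime_two_left.mpr hodd)) (orderOf_dvd_of_pow_eq_one hn)
    (orderOf_dvd_of_pow_eq_one hd1))

theorem two_pow_of_mem {P : Subgroup X} (hP : IsPGroup 2 P) {d : X} (hd : d ∈ P) : ∃ n : ℕ, d ^ 2 ^ n = 1 := by
  obtain ⟨n, hn⟩ := hP ⟨d, hd⟩
  exact ⟨n, congrArg Subtype.val hn⟩

theorem exists_involution_pow {d : X} (h : ∃ n : ℕ, d ^ 2 ^ n = 1) (hd : d ≠ 1) :
    ∃ m : ℕ, d ^ m ≠ 1 ∧ (d ^ m) ^ 2 = 1 := by
  obtain ⟨n, hn⟩ := h
  induction n generalizing d with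
  | zero => exact absurd (by simpa using hn) hd
  | succ n ih =>
    by_cases h1 : d ^ 2 ^ n = 1
    · exact ih hd h1
    · exact ⟨2 ^ n, h1, by rw [← pow_mul, ← pow_succ]; exact hn⟩

/-- The configuration common to the arguments. -/
structure Setting (X : Type*) [Group X] [Finite X] : Prop where
  solv : Group.IsSolvable X
  core : Cfsg.pPrimeCore 2 X = ⊥
  two : ∃ a b : X, a ≠ b ∧ a ≠ 1 ∧ a ^ 2 = 1 ∧ b ≠ 1 ∧ b ^ 2 = 1
  conj : ∀ a b : X, a ≠ 1 → a ^ 2 = 1 → b ≠ 1 → b ^ 2 = 1 → IsConj a b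

theorem centralizer_pCore_le (h : Setting X) :
    centralizer (Cfsg.pCore 2 X : Set X) ≤ Cfsg.pCore 2 X := by
  haveI := h.solv
  haveI : Fact (Nat.Prime 2) := ⟨Nat.prime_two⟩
  exact (Layer.pCoreSelfCentral_iff_layer h.core).mpr Layer.layer_eq_bot_of_isSolvable

theorem invol_mem_center (h : Setting X) : ∀ v : X, v ^ 2 = 1 →
    v ∈ Cfsg.pCore 2 X ∧ ∀ p ∈ Cfsg.pCore 2 X, p * v = v * p := by
  haveI : Fact (Nat.Prime 2) := ⟨Nat.prime_two⟩
  set P := Cfsg.pCore 2 X
  have hP : IsPGroup 2 P := Core.pCore_isPGroup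
  have hPne : P ≠ ⊥ := fun hb => by
    obtain ⟨a, b, -, ha, -⟩ := h.two
    have hc := centralizer_pCore_le h
    rw [show Cfsg.pCore 2 X = P from rfl, hb] at hc
    exact ha (mem_bot.mp (hc (mem_centralizer_iff.mpr fun z hz => by
      rw [mem_bot.mp hz, one_mul, mul_one])))
  haveI : Nontrivial P := P.nontrivial_iff_ne_bot.mpr hPne
  haveI := hP.center_nontrivial
  obtain ⟨⟨c, hc⟩, hc1⟩ := exists_ne (1 : center P)
  have hcne : (c : X) ≠ 1 := fun e => hc1 (Subtype.ext (Subtype.ext e))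
  obtain ⟨m, hm1, hm2⟩ := exists_involution_pow (two_pow_of_mem hP c.2) hcne
  have hcc : ∀ p ∈ P, p * (c : X) ^ m = (c : X) ^ m * p := fun p hp => by
    have h1 : Commute p (c : X) := congrArg Subtype.val (mem_center_iff.mp hc ⟨p, hp⟩)
    exact (h1.pow_right m).eq
  intro v hv
  by_cases hv1 : v = 1
  · subst hv1; exact ⟨one_mem _, fun p _ => by rw [mul_one, one_mul]⟩
  obtain ⟨g, hg⟩ := isConj_iff.mp (h.conj _ v hm1 hm2 hv1 hv)
  rw [← hg]
  refine ⟨(inferInstance : P.Normal).conj_mem _ (pow_mem c.2 m) g, fun p hp => ?_⟩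
  have h1 := hcc _ ((inferInstance : P.Normal).conj_mem p hp g⁻¹)
  calc p * (g * (c : X) ^ m * g⁻¹) = g * (g⁻¹ * p * g⁻¹⁻¹ * (c : X) ^ m) * g⁻¹ := by group
    _ = g * (c : X) ^ m * g⁻¹ * p := by rw [h1]; group

/-- The subgroup of the involutions. -/
def invol (h : Setting X) : Subgroup X where
  carrier := {v | v ^ 2 = 1}
  one_mem' := one_pow 2
  mul_mem' := by
    intro a b (ha : a ^ 2 = 1) (hb : b ^ 2 = 1)
    have hab : Commute a b := (invol_mem_center h b hb).2 a (invol_mem_center h a ha).1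
    show (a * b) ^ 2 = 1
    rw [hab.mul_pow, ha, hb, one_mul]
  inv_mem' := by
    intro a (ha : a ^ 2 = 1)
    show a⁻¹ ^ 2 = 1
    rw [inv_pow, ha, inv_one]

variable (h : Setting X)

theorem mem_invol {v : X} : v ∈ invol h ↔ v ^ 2 = 1 := Iff.rfl

instance : (invol h).Normal := ⟨fun v hv g => by
  show (g * v * g⁻¹) ^ 2 = 1
  rw [conj_pow, (mem_invol h).mp hv, mul_one, mul_inv_cancel]⟩

theorem invol_le : invol h ≤ Cfsg.pCore 2 X := fun v hv => (invol_mem_center h v hv).1

theorem invol_comm {v p : X} (hv : v ∈ invol h) (hp : p ∈ Cfsg.pCore 2 X) : Commute p v :=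
  (invol_mem_center h v hv).2 p hp

theorem commute_all {m v : X} (hv : v ∈ invol h) (hv1 : v ≠ 1)
    (hall : ∀ g : X, Commute (g * m * g⁻¹) v) : m ∈ centralizer (invol h : Set X) := by
  refine mem_centralizer_iff.mpr fun w hw => ?_
  by_cases hw1 : w = 1
  · subst hw1; rw [one_mul, mul_one]
  obtain ⟨g, hg⟩ := isConj_iff.mp (h.conj v w hv1 hv hw1 hw)
  rw [← hg]
  have h1 := hall g⁻¹
  calc g * v * g⁻¹ * m = g * (v * (g⁻¹ * m * g⁻¹⁻¹)) * g⁻¹ := by group
    _ = m * (g * v * g⁻¹) := by rw [← h1.eq]; group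

theorem centralizer_invol_ne_top : centralizer (invol h : Set X) ≠ ⊤ := by
  intro ht
  obtain ⟨a, b, hab, ha1, ha, hb1, hb⟩ := h.two
  obtain ⟨g, hg⟩ := isConj_iff.mp (h.conj a b ha1 ha hb1 hb)
  have hga := mem_centralizer_iff.mp (ht ▸ mem_top g : g ∈ centralizer (invol h : Set X)) a ha
  exact hab (by rw [← hg, ← hga, mul_inv_cancel_right])

/-- A section above the centraliser of the involutions acts without fixed points on them. -/
theorem exists_fpf_section : ∃ (M : Subgroup X) (r : ℕ), r.Prime ∧ r ≠ 2 ∧ M.Normal ∧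
    centralizer (invol h : Set X) < M ∧
    (∀ m ∈ M, m ^ r ∈ centralizer (invol h : Set X)) ∧
    ∀ m ∈ M, m ∉ centralizer (invol h : Set X) → ∀ v ∈ invol h, Commute m v → v = 1 := by
  haveI := h.solv
  set V := invol h with hV
  set C := centralizer (V : Set X) with hC
  have hCn : C.Normal := inferInstance
  haveI : Nontrivial (X ⧸ C) := by
    by_contra hn
    rw [not_nontrivial_iff_subsingleton] at hn
    refine centralizer_invol_ne_top h (eq_top_iff.mpr fun g _ => ?_)
    exact (QuotientGroup.eq_one_iff g).mp (Subsingleton.elim _ _)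
  obtain ⟨Mb, hMb⟩ := Core.exists_isMinNormal (G := X ⧸ C)
  haveI := hMb.1
  haveI := hMb.isMulCommutative
  obtain ⟨r, hr, hpow⟩ := hMb.exists_prime_pow_eq_one
  set M := Mb.comap (QuotientGroup.mk' C) with hM
  have hMn : M.Normal := inferInstance
  have hCM : C ≤ M := fun c hc => by
    rw [hM, mem_comap, QuotientGroup.mk'_apply, (QuotientGroup.eq_one_iff c).mpr hc]
    exact one_mem _
  have hMr : ∀ m ∈ M, m ^ r ∈ C := fun m hm => (QuotientGroup.eq_one_iff _).mp (hpow _ hm)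
  have hMcomm : ∀ a ∈ M, ∀ b ∈ M, a * b * a⁻¹ * b⁻¹ ∈ C := fun a ha b hb => by
    refine (QuotientGroup.eq_one_iff _).mp ?_
    have hab : (QuotientGroup.mk' C a) * (QuotientGroup.mk' C b) = (QuotientGroup.mk' C b) * (QuotientGroup.mk' C a) :=
      congrArg Subtype.val (IsMulCommutative.is_comm.comm (⟨_, ha⟩ : Mb) ⟨_, hb⟩)
    show QuotientGroup.mk' C (a * b * a⁻¹ * b⁻¹) = 1
    rw [map_mul, map_mul, map_mul, map_inv, map_inv, hab]
    group
  have hlt : C < M := by
    refine lt_of_le_of_ne hCM fun heq => hMb.2 (eq_bot_iff.mpr fun y hy => ?_)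
    obtain ⟨g, rfl⟩ := QuotientGroup.mk'_surjective C y
    have hg : g ∈ C := heq ▸ (show g ∈ M from hy)
    exact mem_bot.mpr ((QuotientGroup.eq_one_iff g).mpr hg)
  have hfix : ∀ m ∈ M, m ∉ C → ∀ v ∈ V, Commute m v → v = 1 := by
    intro m hm hmC v hv hmv
    by_contra hv1
    -- the stabilisers in `M` of the involutions
    set st : X → Subgroup X := fun w => M ⊓ centralizer {w} with hst
    have mst : ∀ {w k : X}, k ∈ st w ↔ k ∈ M ∧ Commute k w := fun {w k} => by
      rw [hst, Subgroup.mem_inf, mem_centralizer_singleton_iff]; rfl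
    have hCst : ∀ w ∈ V, C ≤ st w := fun w hw c hc =>
      mst.mpr ⟨hCM hc, (mem_centralizer_iff.mp hc w hw).symm⟩
    have hcard : ∀ w ∈ V, w ≠ 1 → Nat.card (st w) = Nat.card (st v) := by
      intro w hw hw1
      obtain ⟨g, hg⟩ := isConj_iff.mp (h.conj v w hv1 hv hw1 hw)
      refine Nat.card_congr ((Equiv.subtypeEquiv (MulAut.conj g⁻¹).toEquiv fun k => ?_))
      show k ∈ st w ↔ g⁻¹ * k * g⁻¹⁻¹ ∈ st v
      rw [mst, mst, ← hg]
      refine and_congr ⟨fun hk => hMn.conj_mem k hk g⁻¹, fun hk => ?_⟩ ⟨fun hk => ?_, fun hk => ?_⟩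
      · simpa [mul_assoc] using hMn.conj_mem _ hk g
      · show g⁻¹ * k * g⁻¹⁻¹ * v = v * (g⁻¹ * k * g⁻¹⁻¹)
        calc _ = g⁻¹ * (k * (g * v * g⁻¹)) * g := by group
          _ = _ := by rw [hk.eq]; group
      · show k * (g * v * g⁻¹) = g * v * g⁻¹ * k
        calc _ = g * (g⁻¹ * k * g⁻¹⁻¹ * v) * g⁻¹ := by group
          _ = _ := by rw [hk.eq]; group
    -- the stabiliser of `v` moves some involution
    obtain ⟨w, hw, hmw⟩ : ∃ w ∈ V, ¬ Commute m w := by
      by_contra hcon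
      push Not at hcon
      exact hmC (mem_centralizer_iff.mpr fun w hw => (hcon w hw).symm.eq)
    have hw1 : w ≠ 1 := fun e => hmw (e ▸ Commute.one_right m)
    have hvw1 : v * w ≠ 1 := fun e => hmw (by rw [eq_inv_of_mul_eq_one_right e]; exact hmv.inv_right)
    have hsub : st (v * w) ≤ st v ⊓ st w := by
      intro k hk
      obtain ⟨hkM, hkvw⟩ := mst.mp hk
      set d := k * v * k⁻¹ * v⁻¹
      have hVn : V.Normal := inferInstance
      have hd1 : d ∈ V := V.mul_mem (hVn.conj_mem v hv k) (V.inv_mem hv)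
      have hVc : ∀ a ∈ V, ∀ b ∈ V, Commute a b := fun a ha b hb => invol_comm h hb (invol_le h ha)
      have hd2 : d = w * (k * w * k⁻¹)⁻¹ := by
        have e1 : k * v * k⁻¹ * (k * w * k⁻¹) = v * w := by
          calc _ = k * (v * w) * k⁻¹ := by group
            _ = _ := by rw [hkvw.eq, mul_inv_cancel_right]
        have e2 : k * v * k⁻¹ = v * w * (k * w * k⁻¹)⁻¹ := by rw [← e1]; group
        calc d = v * w * (k * w * k⁻¹)⁻¹ * v⁻¹ := by rw [← e2]
          _ = v * (w * (k * w * k⁻¹)⁻¹) * v⁻¹ := by group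
          _ = _ := by
            rw [(hVc v hv _ (V.mul_mem hw (V.inv_mem (hVn.conj_mem w hw k)))).eq, mul_inv_cancel_right]
      -- the fixed points of each stabiliser are invariant under `M`
      have hinv : ∀ u ∈ V, ∀ l ∈ st u, Commute l (k * u * k⁻¹) := by
        intro u hu l hl
        obtain ⟨hlM, hlu⟩ := mst.mp hl
        have h1 : k⁻¹ * l * k⁻¹⁻¹ * l⁻¹ ∈ C := hMcomm _ (M.inv_mem hkM) l hlM
        have h2 : Commute (k⁻¹ * l * k⁻¹⁻¹ * l⁻¹ * l) u :=
          Commute.mul_left (mem_centralizer_iff.mp h1 u hu).symm hlu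
        rw [inv_mul_cancel_right] at h2
        show l * (k * u * k⁻¹) = k * u * k⁻¹ * l
        calc _ = k * (k⁻¹ * l * k⁻¹⁻¹ * u) * k⁻¹ := by group
          _ = _ := by rw [h2.eq]; group
      have hdv : st v ≤ st d := fun l hl => mst.mpr ⟨(mst.mp hl).1,
        (hinv v hv l hl).mul_right (mst.mp hl).2.inv_right⟩
      have hdw : st w ≤ st d := fun l hl => mst.mpr ⟨(mst.mp hl).1,
        hd2 ▸ (mst.mp hl).2.mul_right (hinv w hw l hl).inv_right⟩
      by_cases hd0 : d = 1
      · have h3 : Commute k v := mul_inv_eq_iff_eq_mul.mp (mul_inv_eq_one.mp hd0)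
        refine ⟨mst.mpr ⟨hkM, h3⟩, mst.mpr ⟨hkM, ?_⟩⟩
        have := h3.inv_right.mul_right hkvw
        rwa [inv_mul_cancel_left] at this
      · exfalso
        have e1 := Subgroup.eq_of_le_of_card_ge hdv (by rw [hcard d hd1 hd0])
        have e2 := Subgroup.eq_of_le_of_card_ge hdw (by rw [hcard d hd1 hd0, hcard w hw hw1])
        exact hmw (mst.mp ((e2.trans e1.symm).symm ▸ mst.mpr ⟨hm, hmv⟩ : m ∈ st w)).2
    have hvw : v * w ∈ V := V.mul_mem hv hw
    have e1 := Subgroup.eq_of_le_of_card_ge (hsub.trans inf_le_left) (by rw [hcard _ hvw hvw1])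
    have : m ∈ st (v * w) := e1 ▸ mst.mpr ⟨hm, hmv⟩
    exact hmw (mst.mp (hsub this).2).2
  refine ⟨M, r, hr, ?_, hMn, hlt, hMr, hfix⟩
  rintro rfl
  obtain ⟨m, hm, hmC⟩ := SetLike.exists_of_lt hlt
  obtain ⟨a, -, -, ha1, ha, -⟩ := h.two
  -- a two-part of `m` outside `C` fixes a vector
  obtain ⟨n, b, hb, hmn⟩ := Nat.exists_eq_pow_mul_and_not_dvd (orderOf_pos m).ne' 2 (by omega)
  have hbodd : Odd b := Nat.odd_iff.mpr (by omega)
  have hm'C : m ^ b ∉ C := fun hc => hmC (by
    obtain ⟨k, hk⟩ := hbodd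
    have h1 : m ^ (2 * k) ∈ C := by rw [pow_mul]; exact pow_mem (hMr m hm) k
    rw [hk, pow_add, pow_one] at hc
    exact (C.mul_mem_cancel_left h1).mp hc)
  set T := zpowers (m ^ b) with hT
  have hTp : IsPGroup 2 T := by
    refine IsPGroup.of_card (n := n) ?_
    rw [Nat.card_zpowers, orderOf_pow' _ (by rintro rfl; exact hb (dvd_zero 2)), hmn,
      Nat.gcd_eq_right (Dvd.intro_left _ rfl), Nat.mul_div_cancel _ (Nat.pos_of_ne_zero (by rintro rfl; exact hb (dvd_zero 2)))]
  haveI : Fact (Nat.Prime 2) := ⟨Nat.prime_two⟩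
  obtain ⟨S, hS⟩ := hTp.exists_le_sylow
  have hVS : V ≤ S := (invol_le h).trans (Core.pCore_le_sylow S)
  haveI : Nontrivial (S : Subgroup X) := (S : Subgroup X).nontrivial_iff_ne_bot.mpr fun hb' => ha1 (by
    have := hVS (show a ∈ V from ha)
    rw [hb', mem_bot] at this
    exact this)
  haveI := S.isPGroup'.center_nontrivial
  obtain ⟨⟨c, hc⟩, hc1⟩ := exists_ne (1 : center (S : Subgroup X))
  obtain ⟨j, hj1, hj2⟩ := exists_involution_pow (two_pow_of_mem S.isPGroup' c.2) (fun e => hc1 (Subtype.ext (Subtype.ext e)))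
  have hcomm : Commute (m ^ b) (c : X) := congrArg Subtype.val (mem_center_iff.mp hc ⟨_, hS (mem_zpowers _)⟩)
  exact hj1 (hfix _ (M.pow_mem hm b) hm'C _ hj2 (hcomm.pow_right j))

/-- The centraliser of the involutions contains every Sylow two-subgroup, and some element of its
normaliser acts without fixed points. -/
theorem exists_fpf_normalizing (S : Sylow 2 X) : (S : Subgroup X) ≤ centralizer (invol h : Set X) ∧
    ∃ (x : X) (r : ℕ), r.Prime ∧ r ≠ 2 ∧ (∃ n : ℕ, x ^ r ^ n = 1) ∧ x ∈ normalizer ((S : Subgroup X) : Set X) ∧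
      x ^ r ∈ centralizer (invol h : Set X) ∧ ∀ v ∈ invol h, Commute x v → v = 1 := by
  haveI : Fact (Nat.Prime 2) := ⟨Nat.prime_two⟩
  obtain ⟨M, r, hr, hr2, hMn, hlt, hMr, hfix⟩ := exists_fpf_section h
  set C := centralizer (invol h : Set X) with hC
  haveI := Fact.mk hr
  have hS : (S : Subgroup X) ≤ C := by
    have hidx : ¬ 2 ∣ C.index := by
      -- the normaliser of a Sylow subgroup of `M` has odd order
      obtain ⟨R⟩ : Nonempty (Sylow r M) := inferInstance
      have hN := Sylow.normalizer_sup_eq_top R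
      set N := normalizer (((R : Subgroup M).map M.subtype : Subgroup X) : Set X) with hNdef
      have hodd : ¬ 2 ∣ Nat.card N := by
        intro hd
        obtain ⟨t, ht⟩ := exists_prime_orderOf_dvd_card' 2 hd
        have ht1 : (t : X) ≠ 1 := fun e => by
          have : orderOf (t : X) = 2 := by rw [Subgroup.orderOf_coe]; exact ht
          rw [e, orderOf_one] at this
          omega
        have htV : (t : X) ∈ invol h := by
          show (t : X) ^ 2 = 1
          rw [← Subgroup.coe_pow, ← ht, pow_orderOf_eq_one, Subgroup.coe_one]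
        -- `t` commutes with the Sylow subgroup
        have hcomm : ∀ a ∈ (R : Subgroup M).map M.subtype, Commute a (t : X) := by
          intro a ha
          set d := (t : X) * a * (t : X)⁻¹ * a⁻¹
          have hd1 : d ∈ (R : Subgroup M).map M.subtype :=
            mul_mem ((mem_normalizer_iff.mp t.2 a).mp ha) (inv_mem ha)
          have hd2 : d ∈ invol h := by
            have hn : (invol h).Normal := inferInstance
            rw [show d = (t : X) * (a * (t : X)⁻¹ * a⁻¹) by simp only [d]; group]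
            exact mul_mem htV (hn.conj_mem _ (inv_mem htV) a)
          obtain ⟨b, hb, hbd⟩ := hd1
          obtain ⟨k, hk⟩ := R.isPGroup' ⟨b, hb⟩
          have hbk : (b : X) ^ r ^ k = 1 := congrArg (fun z : (R : Subgroup M) => ((z : M) : X)) hk
          change (b : X) = d at hbd
          rw [hbd] at hbk
          have hd0 : d = 1 := orderOf_eq_one_iff.mp (Nat.eq_one_of_dvd_coprimes
            (Nat.Coprime.pow_right k ((Nat.coprime_primes Nat.prime_two hr).mpr (Ne.symm hr2)))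
            (orderOf_dvd_of_pow_eq_one hd2) (orderOf_dvd_of_pow_eq_one hbk))
          exact (mul_inv_eq_iff_eq_mul.mp (mul_inv_eq_one.mp hd0)).symm
        -- the Sylow subgroup is not contained in the centraliser
        refine ht1 ?_
        obtain ⟨m, hm, hmC⟩ : ∃ m ∈ (R : Subgroup M).map M.subtype, m ∉ C := by
          by_contra hcon
          push Not at hcon
          have hle : (R : Subgroup M) ≤ C.subgroupOf M := fun b hb => hcon _ (mem_map_of_mem _ hb)
          obtain ⟨m, hm, hmC⟩ := SetLike.exists_of_lt hlt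
          have hm' : ¬ r ∣ (C.subgroupOf M).index := fun hd =>
            R.not_dvd_index (hd.trans (Subgroup.index_dvd_of_le hle))
          haveI : (C.subgroupOf M).Normal := inferInstance
          have h1 : (⟨m, hm⟩ : M) ^ (C.subgroupOf M).index ∈ C.subgroupOf M := Subgroup.pow_index_mem _ _
          have h2 : (⟨m, hm⟩ : M) ^ r ∈ C.subgroupOf M := hMr m hm
          have h3 := Nat.gcd_eq_gcd_ab r (C.subgroupOf M).index
          rw [(hr.coprime_iff_not_dvd.mpr hm').gcd_eq_one] at h3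
          have h4 : (⟨m, hm⟩ : M) ^ ((1 : ℕ) : ℤ) ∈ C.subgroupOf M := by
            rw [h3, zpow_add, zpow_mul, zpow_mul, zpow_natCast, zpow_natCast]
            exact mul_mem (zpow_mem h2 _) (zpow_mem h1 _)
          rw [zpow_natCast, pow_one] at h4
          exact hmC h4
        exact hfix m (map_subtype_le _ hm) hmC _ htV (hcomm m hm)
      intro hd
      -- the index of `C` divides `|N| * |M : C|`
      have h1 : M.index ∣ Nat.card N := by
        rw [← Subgroup.relIndex_top_right, ← hN, relIndex_sup_right]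
        exact Subgroup.relIndex_dvd_card ..
      have h2 : C.index = C.relIndex M * M.index := (Subgroup.relIndex_mul_index hlt.le).symm
      rcases (Nat.Prime.dvd_mul Nat.prime_two).mp (h2 ▸ hd) with h3 | h3
      · haveI : (C.subgroupOf M).Normal := inferInstance
        rw [Subgroup.relIndex, Subgroup.index_eq_card] at h3
        obtain ⟨z, hz⟩ := exists_prime_orderOf_dvd_card' 2 h3
        obtain ⟨m, rfl⟩ := QuotientGroup.mk'_surjective (C.subgroupOf M) z
        have h4 : (QuotientGroup.mk' (C.subgroupOf M) m) ^ r = 1 :=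
          (QuotientGroup.eq_one_iff _).mpr (hMr m m.2)
        have h5 := orderOf_dvd_of_pow_eq_one h4
        rw [hz] at h5
        exact hr2 ((Nat.prime_dvd_prime_iff_eq Nat.prime_two hr).mp h5).symm
      · exact hodd (h3.trans h1)
    intro s hs
    have h1 : s ^ C.index ∈ C := Subgroup.pow_index_mem C s
    obtain ⟨k, hk⟩ := two_pow_of_mem S.isPGroup' hs
    have h3 := Nat.gcd_eq_gcd_ab (2 ^ k) C.index
    rw [Nat.Coprime.gcd_eq_one (Nat.Coprime.pow_left k (Nat.prime_two.coprime_iff_not_dvd.mpr hidx))] at h3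
    have h4 : s ^ ((1 : ℕ) : ℤ) ∈ C := by
      rw [h3, zpow_add, zpow_mul, zpow_mul, zpow_natCast, zpow_natCast, hk, one_zpow, one_mul]
      exact zpow_mem h1 _
    rwa [zpow_natCast, pow_one] at h4
  refine ⟨hS, ?_⟩
  have hFr := Sylow.normalizer_sup_eq_top' (N := C) S hS
  obtain ⟨m, hm, hmC⟩ := SetLike.exists_of_lt hlt
  obtain ⟨n, hn, c, hc, hnc⟩ := mem_sup_of_normal_right.mp (hFr ▸ mem_top m)
  have hnM : n ∈ M := by
    rw [← mul_inv_cancel_right n c, hnc]
    exact mul_mem hm (inv_mem (hlt.le hc))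
  have hnC : n ∉ C := fun h' => hmC (hnc ▸ mul_mem h' hc)
  obtain ⟨k, b, hb, hmn⟩ := Nat.exists_eq_pow_mul_and_not_dvd (orderOf_pos n).ne' r hr.ne_one
  have hxC : n ^ b ∉ C := fun hc' => hnC (by
    have h3 := Nat.gcd_eq_gcd_ab r b
    rw [(hr.coprime_iff_not_dvd.mpr hb).gcd_eq_one] at h3
    have h4 : n ^ ((1 : ℕ) : ℤ) ∈ C := by
      rw [h3, zpow_add, zpow_mul, zpow_mul, zpow_natCast, zpow_natCast]
      exact mul_mem (zpow_mem (hMr n hnM) _) (zpow_mem hc' _)
    rwa [zpow_natCast, pow_one] at h4)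
  refine ⟨n ^ b, r, hr, hr2, ⟨k, ?_⟩, pow_mem hn b, hMr _ (M.pow_mem hnM b),
    hfix _ (M.pow_mem hnM b) hxC⟩
  rw [← pow_mul, mul_comm, ← hmn, pow_orderOf_eq_one]

theorem two_part_bot {Y : Type*} [Group Y] [Finite Y] {F : Subgroup Y} (hF : Group.IsNilpotent F)
    [F.Normal] (hO : Cfsg.pCore 2 Y = ⊥) {e : Y} (he : e ∈ F) (he2 : e ^ 2 = 1) : e = 1 := by
  haveI : Fact (Nat.Prime 2) := ⟨Nat.prime_two⟩
  haveI := hF
  obtain ⟨P⟩ : Nonempty (Sylow 2 F) := inferInstance
  haveI hPn : (P : Subgroup F).Normal :=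
    Sylow.normal_of_normalizerCondition Group.normalizerCondition_of_isNilpotent P
  haveI := Sylow.characteristic_of_normal P hPn
  have hle : (P : Subgroup F).map F.subtype ≤ Cfsg.pCore 2 Y := Core.le_pCore (P.isPGroup'.map F.subtype)
  haveI := Sylow.unique_of_normal P hPn
  obtain ⟨Q, hQ⟩ := IsPGroup.exists_le_sylow (p := 2) (P := zpowers (⟨e, he⟩ : F)) (by
    rintro ⟨y, hy⟩
    obtain ⟨k, rfl⟩ := mem_zpowers_iff.mp hy
    refine ⟨1, Subtype.ext (Subtype.ext ?_)⟩
    show ((⟨e, he⟩ : F) ^ k : F).1 ^ 2 ^ 1 = 1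
    rw [pow_one, SubgroupClass.coe_zpow, ← zpow_natCast, ← zpow_mul, mul_comm, zpow_mul, zpow_natCast, he2, one_zpow])
  rw [Subsingleton.elim Q P] at hQ
  have := hle (mem_map_of_mem F.subtype (hQ (mem_zpowers _)))
  rwa [hO, mem_bot] at this

/-- An odd element commuting with a suitable part of a two-group centralises it. -/
theorem centralizes_of_sq {P K V : Subgroup X} (hP : IsPGroup 2 P) (hKP : K ≤ P) {g : X}
    (hodd : Odd (orderOf g)) (hgP : ∀ p ∈ P, g * p * g⁻¹ ∈ P) (hgK : ∀ k ∈ K, g * k * g⁻¹ ∈ K)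
    (hPK : ∀ p ∈ P, ∀ k ∈ K, p * k * p⁻¹ ∈ K) (hcc : ∀ p ∈ P, (∀ k ∈ K, Commute p k) → p ∈ K)
    (hKc : ∀ k ∈ K, ∀ l ∈ K, ∀ u ∈ K, Commute (k * l * k⁻¹ * l⁻¹) u)
    (hV : ∀ v : X, v ^ 2 = 1 → v ∈ V) (hVc : ∀ v ∈ V, v ^ 2 = 1 ∧ ∀ p ∈ P, Commute p v)
    (hgV : ∀ v ∈ V, g * v * g⁻¹ = v)
    (hgU : ∀ k ∈ K, k ^ 2 ∈ V → ∃ v ∈ V, g * k * g⁻¹ = k * v) : g ∈ centralizer (P : Set X) := by
  have hU : ∀ k ∈ K, k ^ 2 ∈ V → g * k * g⁻¹ = k := by
    intro k hk hk2
    obtain ⟨v, hv, hkv⟩ := hgU k hk hk2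
    rw [hkv, fixed_of_delta hodd ⟨1, by simpa using (hVc v hv).1⟩ hkv (hgV v hv), mul_one]
  have hK : ∀ n : ℕ, ∀ k ∈ K, k ^ 2 ^ n = 1 → g * k * g⁻¹ = k := by
    intro n
    induction n with
    | zero =>
      intro k _ hk
      rw [pow_zero, pow_one] at hk
      subst hk
      group
    | succ n ih =>
      intro k hk hkn
      have hk2 : g * k ^ 2 * g⁻¹ = k ^ 2 := ih _ (pow_mem hk 2) (by rw [← pow_mul, ← pow_succ']; exact hkn)
      obtain ⟨k', hk'def⟩ : ∃ k', g * k * g⁻¹ = k' := ⟨_, rfl⟩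
      have hk' : k' ∈ K := hk'def ▸ hgK k hk
      have hk'2 : k' ^ 2 = k ^ 2 := by rw [← hk'def, conj_pow, hk2]
      obtain ⟨c, hc⟩ : ∃ c, k * k' * k⁻¹ * k'⁻¹ = c := ⟨_, rfl⟩
      have hck : Commute k c := (hc ▸ hKc k hk k' hk' k hk : Commute c k).symm
      have hc2 : c ^ 2 = 1 := by
        have h1 := comm_pow_left hc hck 2
        have h2 : k ^ 2 * k' = k' * k ^ 2 := by rw [← hk'2]; exact (Commute.self_pow k' 2).symm.eq
        rw [h2, mul_inv_cancel_right] at h1
        exact mul_eq_right.mp h1.symm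
      have hcV : c ∈ V := hV c hc2
      have hd : (k⁻¹ * k') ^ 2 ∈ V := by
        have h1 : k' * k⁻¹ = k⁻¹ * c * k' := by rw [← hc]; group
        have e : (k⁻¹ * k') ^ 2 = c := by
          calc (k⁻¹ * k') ^ 2 = k⁻¹ * (k' * k⁻¹) * k' := by rw [pow_two]; group
            _ = (k ^ 2)⁻¹ * c * k' ^ 2 := by rw [h1, pow_two, pow_two]; group
            _ = c := by
              rw [hk'2, ((hck.pow_left 2).inv_left).eq, inv_mul_cancel_right]
        rw [e]; exact hcV
      have hdK : k⁻¹ * k' ∈ K := mul_mem (inv_mem hk) hk'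
      have h1 := fixed_of_delta hodd (two_pow_of_mem hP (hKP hdK))
        (show g * k * g⁻¹ = k * (k⁻¹ * k') by rw [hk'def, mul_inv_cancel_left]) (hU _ hdK hd)
      rw [hk'def]
      exact (inv_mul_eq_one.mp h1).symm
  have hKfix : ∀ k ∈ K, g * k * g⁻¹ = k := fun k hk => by
    obtain ⟨n, hn⟩ := two_pow_of_mem hP (hKP hk)
    exact hK n k hk hn
  refine mem_centralizer_iff.mpr fun p hp => ?_
  obtain ⟨d, hd⟩ : ∃ d, p⁻¹ * (g * p * g⁻¹) = d := ⟨_, rfl⟩
  have hdP : d ∈ P := hd ▸ mul_mem (inv_mem hp) (hgP p hp)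
  have hdK : d ∈ K := hcc d hdP fun k hk => by
    have h1 : g * p * g⁻¹ * k * (g * p * g⁻¹)⁻¹ = p * k * p⁻¹ := by
      calc _ = g * (p * (g⁻¹ * k * g) * p⁻¹) * g⁻¹ := by group
        _ = g * (p * k * p⁻¹) * g⁻¹ := by
          rw [show g⁻¹ * k * g = k by nth_rw 1 [← hKfix k hk]; group]
        _ = _ := hKfix _ (hPK p hp k hk)
    show d * k = k * d
    calc d * k = p⁻¹ * (g * p * g⁻¹ * k * (g * p * g⁻¹)⁻¹) * (g * p * g⁻¹) := by rw [← hd]; group
      _ = k * d := by rw [h1, ← hd]; group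
  have h2 := fixed_of_delta hodd (two_pow_of_mem hP hdP)
    (show g * p * g⁻¹ = p * d by rw [← hd, mul_inv_cancel_left]) (hKfix d hdK)
  rw [h2, inv_mul_eq_one] at hd
  exact mul_inv_eq_iff_eq_mul.mp hd.symm |>.symm

include h in
/-- The main step: no element of order two is left above the two-core. -/
theorem sylow_le_pCore (S : Sylow 2 X) : (S : Subgroup X) ≤ Cfsg.pCore 2 X := by
  classical
  haveI : Fact (Nat.Prime 2) := ⟨Nat.prime_two⟩
  haveI := h.solv
  by_contra hSP
  obtain ⟨hSC, x, r, hr, hr2, hxord, hxS, hxr, hxfix⟩ := exists_fpf_normalizing h S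
  set P := Cfsg.pCore 2 X with hPdef
  set V := invol h with hVdef
  set C := centralizer (V : Set X) with hCdef
  have hP : IsPGroup 2 P := Core.pCore_isPGroup
  have hPS : P ≤ S := Core.pCore_le_sylow S
  have hPC : P ≤ C := hPS.trans hSC
  set π := QuotientGroup.mk' P with hπ
  -- `x` has no fixed points on the Sylow subgroup
  have hxfixS : ∀ s ∈ (S : Subgroup X), Commute x s → s = 1 := by
    intro s hs hxs
    by_contra hs1
    obtain ⟨j, hj1, hj2⟩ := exists_involution_pow (two_pow_of_mem S.isPGroup' hs) hs1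
    exact hj1 (hxfix _ hj2 (hxs.pow_right j))
  have hxodd : (Nat.card (zpowers x)).Coprime (Nat.card P) := by
    obtain ⟨n, hn⟩ := hxord
    obtain ⟨k, hk⟩ := IsPGroup.iff_card.mp hP
    rw [Nat.card_zpowers, hk]
    exact Nat.Coprime.coprime_dvd_left (orderOf_dvd_of_pow_eq_one hn)
      (Nat.Coprime.pow n k ((Nat.coprime_primes hr Nat.prime_two).mpr hr2))
  have hxfixq : ∀ s ∈ (S : Subgroup X), π x * π s * (π x)⁻¹ = π s → π s = 1 := by
    intro s hs hfs
    obtain ⟨n, hn, hcn⟩ := Coprime.exists_fixed_mem_leftCoset (A := zpowers x) (N := P) (k := s)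
      (by rw [Subgroup.normalizer_eq_top]; exact le_top) hxodd (Or.inr inferInstance) (fun a ha => by
        refine (QuotientGroup.eq_one_iff _).mp ?_
        show π (s⁻¹ * (a * s * a⁻¹)) = 1
        obtain ⟨j, rfl⟩ := mem_zpowers_iff.mp ha
        have hc : Commute (π x) (π s) := mul_inv_eq_iff_eq_mul.mp hfs
        rw [map_mul, map_inv, map_mul, map_mul, map_inv, map_zpow, (hc.zpow_left j).eq, mul_inv_cancel_right,
          inv_mul_cancel])
    have h1 := hxfixS _ (mul_mem hs (hPS hn)) (mem_centralizer_iff.mp hcn x (mem_zpowers x))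
    rw [show s = n⁻¹ from eq_inv_of_mul_eq_one_left h1, map_inv, inv_eq_one]
    exact (QuotientGroup.eq_one_iff n).mpr hn
  -- the elementary abelian group
  set Sb := (S : Subgroup X).map π with hSb
  let E : Subgroup (X ⧸ P) :=
    { carrier := {e | e ∈ Sb ∧ (∀ s ∈ Sb, e * s = s * e) ∧ e * e = 1}
      one_mem' := ⟨one_mem _, fun s _ => by rw [one_mul, mul_one], one_mul 1⟩
      mul_mem' := fun {a b} ha hb => ⟨mul_mem ha.1 hb.1, fun s hs => (Commute.mul_left (ha.2.1 s hs) (hb.2.1 s hs)).eq,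
        by rw [mul_assoc, ← mul_assoc b a b, hb.2.1 a ha.1, mul_assoc a b b, hb.2.2, mul_one, ha.2.2]⟩
      inv_mem' := fun {a} ha => by rwa [inv_eq_of_mul_eq_one_right ha.2.2] }
  have hSbx : ∀ s ∈ Sb, π x * s * (π x)⁻¹ ∈ Sb := by
    rintro _ ⟨s, hs, rfl⟩
    exact ⟨x * s * x⁻¹, (mem_normalizer_iff.mp hxS s).mp hs, by rw [map_mul, map_mul, map_inv]⟩
  have hEx : ∀ e ∈ E, π x * e * (π x)⁻¹ ∈ E := by
    intro e he
    refine ⟨hSbx e he.1, fun s hs => ?_, ?_⟩
    · obtain ⟨t, ht, rfl⟩ := conj_surj hSbx s hs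
      calc _ = π x * (e * t) * (π x)⁻¹ := by group
        _ = _ := by rw [he.2.1 t ht]; group
    · calc _ = π x * (e * e) * (π x)⁻¹ := by group
        _ = _ := by rw [he.2.2]; group
  have hEsurj : ∀ e ∈ E, ∃ f ∈ E, f⁻¹ * (π x * f * (π x)⁻¹) = e := by
    intro e he
    have hinj : Function.Injective (fun f : E => (⟨(f : X ⧸ P)⁻¹ * (π x * f * (π x)⁻¹),
        mul_mem (inv_mem f.2) (hEx f f.2)⟩ : E)) := by
      intro f1 f2 h12
      have h12' : (f1 : X ⧸ P)⁻¹ * (π x * f1 * (π x)⁻¹) = (f2 : X ⧸ P)⁻¹ * (π x * f2 * (π x)⁻¹) :=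
        congrArg Subtype.val h12
      obtain ⟨s, hs, hse⟩ := (mul_mem f2.2 (inv_mem f1.2) : (f2 : X ⧸ P) * (f1 : X ⧸ P)⁻¹ ∈ E).1
      have h1 : π x * π s * (π x)⁻¹ = π s := by
        rw [hse]
        have e1 : π x * (f1 : X ⧸ P) * (π x)⁻¹ = f1 * ((f2 : X ⧸ P)⁻¹ * (π x * f2 * (π x)⁻¹)) := by
          rw [← h12']; group
        calc π x * ((f2 : X ⧸ P) * (f1 : X ⧸ P)⁻¹) * (π x)⁻¹
            = (π x * f2 * (π x)⁻¹) * (π x * f1 * (π x)⁻¹)⁻¹ := by group
          _ = f2 * (f1 : X ⧸ P)⁻¹ := by rw [e1]; group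
      have h2 := hxfixq s hs h1
      rw [hse, mul_inv_eq_one] at h2
      exact Subtype.ext h2.symm
    obtain ⟨f, hf⟩ := Finite.surjective_of_injective hinj ⟨e, he⟩
    exact ⟨f, f.2, congrArg Subtype.val hf⟩
  obtain ⟨e0, he0, he01⟩ : ∃ e ∈ E, e ≠ 1 := by
    have hSbne : Sb ≠ ⊥ := fun hb => hSP fun s hs => (QuotientGroup.eq_one_iff s).mp
      (mem_bot.mp (hb ▸ mem_map_of_mem π hs))
    haveI : Nontrivial Sb := Sb.nontrivial_iff_ne_bot.mpr hSbne
    haveI := (S.isPGroup'.map π).center_nontrivial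
    obtain ⟨⟨c, hc⟩, hc1⟩ := exists_ne (1 : center Sb)
    obtain ⟨n, hn⟩ := (S.isPGroup'.map π) c
    have hcne : (c : X ⧸ P) ≠ 1 := fun e => hc1 (Subtype.ext (Subtype.ext e))
    obtain ⟨m, hm1, hm2⟩ := exists_involution_pow ⟨n, congrArg Subtype.val hn⟩ hcne
    exact ⟨_, ⟨pow_mem c.2 m, fun s hs => ((show Commute (c : X ⧸ P) s from
      (congrArg Subtype.val (mem_center_iff.mp hc ⟨s, hs⟩)).symm).pow_left m).eq,
      by rw [← pow_two]; exact hm2⟩, hm1⟩
  -- the odd group
  set Cb := C.map π with hCb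
  haveI : Cb.Normal := Subgroup.Normal.map inferInstance π (QuotientGroup.mk'_surjective P)
  have hO2 : Cfsg.pCore 2 Cb = ⊥ := by
    refine map_injective Cb.subtype_injective ?_
    rw [Subgroup.map_bot, eq_bot_iff, ← Core.pCore_quotient_eq_bot (p := 2) (G := X)]
    exact Core.le_pCore (Core.pCore_isPGroup.map Cb.subtype)
  have he0C : e0 ∈ Cb := Subgroup.map_mono hSC he0.1
  obtain ⟨q, hq, hnc⟩ : ∃ q : ℕ, q.Prime ∧
      ∃ e ∈ E, ∃ a ∈ (Cfsg.pCore q Cb).map Cb.subtype, e * a * e⁻¹ ≠ a := by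
    by_contra hcon
    push Not at hcon
    have hmem : (⟨e0, he0C⟩ : Cb) ∈ centralizer (fittingSubgroup Cb : Set Cb) := by
      have hle : fittingSubgroup Cb ≤ centralizer {(⟨e0, he0C⟩ : Cb)} := by
        rw [Core.fittingSubgroup_eq_iSup_pCore]
        refine iSup_le fun q a ha => mem_centralizer_singleton_iff.mpr (Subtype.ext ?_)
        exact (mul_inv_eq_iff_eq_mul.mp (hcon q q.2 e0 he0 _ (mem_map_of_mem Cb.subtype ha))).symm
      exact mem_centralizer_iff.mpr fun a ha => mem_centralizer_singleton_iff.mp (hle ha)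
    have h1 := two_part_bot Core.fittingSubgroup_isNilpotent hO2 (Core.centralizer_fittingSubgroup_le hmem)
      (Subtype.ext (by rw [Subgroup.coe_pow, pow_two]; exact he0.2.2))
    exact he01 (congrArg Subtype.val h1)
  haveI := Fact.mk hq
  have hq2 : q ≠ 2 := by
    rintro rfl
    obtain ⟨e, -, a, ha, hne⟩ := hnc
    rw [hO2, Subgroup.map_bot, mem_bot] at ha
    subst ha
    exact hne (by group)
  set Q0 := (Cfsg.pCore q Cb).map Cb.subtype with hQ0
  have hQ0n : Q0.Normal := inferInstance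
  let good : Set (Subgroup (X ⧸ P)) := {K | K ≤ Q0 ∧ (∀ a ∈ K, π x * a * (π x)⁻¹ ∈ K) ∧
    (∀ e ∈ E, ∀ a ∈ K, e * a * e⁻¹ ∈ K) ∧ ∃ e ∈ E, ∃ a ∈ K, e * a * e⁻¹ ≠ a}
  obtain ⟨Q, ⟨hQle, hQx, hQe, hQnc⟩, hQmin⟩ := Set.Finite.exists_minimal (Set.toFinite good)
    ⟨Q0, le_rfl, fun a ha => hQ0n.conj_mem a ha _, fun e _ a ha => hQ0n.conj_mem a ha e, hnc⟩
  have hQgrp : IsPGroup q Q := (Core.pCore_isPGroup.map Cb.subtype).to_le hQle
  have hqodd : Odd q := hq.odd_of_ne_two hq2
  -- the two modules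
  haveI : V.Normal := inferInstance
  haveI hVcomm : IsMulCommutative V := ⟨⟨fun a b => Subtype.ext
    (invol_comm h b.2 (invol_le h a.2)).eq⟩⟩
  letI instV : CommGroup V := { (inferInstance : Group V) with mul_comm := hVcomm.is_comm.comm }
  obtain ⟨K0, hK0c, -, -, hK0P, hK0cc⟩ := Fusion.exists_critical hP
  set K := K0.map P.subtype with hKdef
  haveI := hK0c
  haveI hKn : K.Normal := inferInstance
  have hKP : K ≤ P := map_subtype_le _
  have hKcen : ∀ k ∈ K, ∀ p ∈ P, k * p * k⁻¹ * p⁻¹ ∈ K ∧ ∀ u ∈ K, Commute (k * p * k⁻¹ * p⁻¹) u := by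
    rintro _ ⟨k, hk, rfl⟩ p hp
    have h1 := hK0P (commutator_mem_commutator hk (mem_top (⟨p, hp⟩ : P)))
    refine ⟨⟨_, h1.1, rfl⟩, ?_⟩
    rintro _ ⟨u, hu, rfl⟩
    exact (congrArg Subtype.val (mem_centralizer_iff.mp h1.2 u hu)).symm
  have hcc : ∀ p ∈ P, (∀ k ∈ K, Commute p k) → p ∈ K := fun p hp hpk =>
    ⟨⟨p, hp⟩, hK0cc (mem_centralizer_iff.mpr fun k hk =>
      Subtype.ext (hpk _ (mem_map_of_mem P.subtype hk)).symm.eq), rfl⟩
  have hVcen : ∀ v ∈ V, ∀ p ∈ P, Commute p v := fun v hv p hp => invol_comm h hv hp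
  have hcommV : ∀ k ∈ K, k ^ 2 ∈ V → ∀ p ∈ P, k * p * k⁻¹ * p⁻¹ ∈ V := by
    intro k hk hk2 p hp
    obtain ⟨c, hc⟩ : ∃ c, k * p * k⁻¹ * p⁻¹ = c := ⟨_, rfl⟩
    have h1 := comm_pow_left hc (hc ▸ ((hKcen k hk p hp).2 k hk) : Commute c k).symm 2
    rw [← (hVcen _ hk2 p hp).eq, mul_inv_cancel_right] at h1
    rw [hc]
    exact (mul_eq_right.mp h1.symm : c ^ 2 = 1)
  let U : Subgroup X :=
    { carrier := {k | k ∈ K ∧ k ^ 2 ∈ V}
      one_mem' := ⟨one_mem _, by rw [one_pow]; exact one_mem _⟩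
      inv_mem' := fun {a} ha => ⟨inv_mem ha.1, by rw [inv_pow]; exact inv_mem ha.2⟩
      mul_mem' := fun {a b} ha hb => ⟨mul_mem ha.1 hb.1, by
        have hc : a⁻¹ * b * a⁻¹⁻¹ * b⁻¹ ∈ V :=
          hcommV _ (inv_mem ha.1) (by rw [inv_pow]; exact inv_mem ha.2) b (hKP hb.1)
        rw [show (a * b) ^ 2 = a ^ 2 * (a⁻¹ * b * a⁻¹⁻¹ * b⁻¹) * b ^ 2 by
          simp only [pow_two]; group]
        exact mul_mem (mul_mem ha.2 hc) hb.2⟩ }
  haveI hUn : U.Normal := ⟨fun u hu g => ⟨hKn.conj_mem u hu.1 g, by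
    rw [conj_pow]; exact (inferInstance : V.Normal).conj_mem _ hu.2 g⟩⟩
  haveI hV0n : (V.subgroupOf U).Normal := inferInstance
  have hUP : U ≤ P := fun u hu => hKP hu.1
  letI instW : CommGroup (U ⧸ V.subgroupOf U) :=
    { (inferInstance : Group (U ⧸ V.subgroupOf U)) with
      mul_comm := fun a b => by
        induction a using QuotientGroup.induction_on with
        | H a =>
          induction b using QuotientGroup.induction_on with
          | H b =>
            rw [← QuotientGroup.mk_mul, ← QuotientGroup.mk_mul, QuotientGroup.eq, mem_subgroupOf]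
            have h1 := hcommV _ (inv_mem b.2.1) (by rw [inv_pow]; exact inv_mem b.2.2) _ (inv_mem (hUP a.2))
            simpa [mul_assoc] using h1 }
  let actW : X →* MulAut (U ⧸ V.subgroupOf U) :=
    MonoidHom.mk' (fun g => QuotientGroup.congr (V.subgroupOf U) (V.subgroupOf U) (MulAut.conjNormal g) (by
      ext u
      constructor
      · rintro ⟨w, hw, rfl⟩
        exact (inferInstance : V.Normal).conj_mem _ hw g
      · intro hu
        refine ⟨(MulAut.conjNormal g).symm u, ?_, MulEquiv.apply_symm_apply _ u⟩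
        show ((MulAut.conjNormal g).symm u : X) ∈ V
        rw [MulAut.conjNormal_symm_apply]
        simpa using (inferInstance : V.Normal).conj_mem _ (mem_subgroupOf.mp hu) g⁻¹)) (fun g g' => by
      refine MulEquiv.ext fun a => ?_
      induction a using QuotientGroup.induction_on with
      | H a =>
        show ((MulAut.conjNormal (g * g') a : U) : U ⧸ V.subgroupOf U) = _
        rw [map_mul]
        rfl)
  have actW_mk : ∀ (g : X) (u : U), actW g (u : U ⧸ V.subgroupOf U) = (MulAut.conjNormal g u : U) :=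
    fun g u => rfl
  have hPW : P ≤ actW.ker := fun p hp => by
    refine MulEquiv.ext fun a => ?_
    induction a using QuotientGroup.induction_on with
    | H a =>
      rw [actW_mk, MulAut.one_apply, QuotientGroup.eq, mem_subgroupOf]
      have h1 := hcommV _ (inv_mem a.2.1) (by rw [inv_pow]; exact inv_mem a.2.2) p hp
      have h2 : ((MulAut.conjNormal p a)⁻¹ * a : U) = (p * (a : X)⁻¹ * p⁻¹ * a : X) := by
        simp [mul_assoc]
      rw [h2]
      simpa [mul_assoc] using inv_mem h1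
  let actV : X →* MulAut V := MulAut.conjNormal
  have hPV : P ≤ actV.ker := fun p hp => MulEquiv.ext fun v => Subtype.ext (by
    show p * (v : X) * p⁻¹ = v
    rw [(hVcen v v.2 p hp).eq, mul_inv_cancel_right])
  let aW := QuotientGroup.lift P actW hPW
  let aV := QuotientGroup.lift P actV hPV
  letI iW : DistribMulAction (X ⧸ P) (Additive (U ⧸ V.subgroupOf U)) :=
    { smul := fun g w => Additive.ofMul (aW g w.toMul)
      one_smul := fun w => by show Additive.ofMul (aW 1 w.toMul) = w; rw [map_one]; rfl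
      mul_smul := fun g g' w => by show Additive.ofMul (aW (g * g') w.toMul) = _; rw [map_mul]; rfl
      smul_zero := fun g => by show Additive.ofMul (aW g 1) = 0; rw [map_one]; rfl
      smul_add := fun g w w' => by
        show Additive.ofMul (aW g (w.toMul * w'.toMul)) = _; rw [map_mul]; rfl }
  letI iV : DistribMulAction (X ⧸ P) (Additive V) :=
    { smul := fun g w => Additive.ofMul (aV g w.toMul)
      one_smul := fun w => by show Additive.ofMul (aV 1 w.toMul) = w; rw [map_one]; rfl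
      mul_smul := fun g g' w => by show Additive.ofMul (aV (g * g') w.toMul) = _; rw [map_mul]; rfl
      smul_zero := fun g => by show Additive.ofMul (aV g 1) = 0; rw [map_one]; rfl
      smul_add := fun g w w' => by
        show Additive.ofMul (aV g (w.toMul * w'.toMul)) = _; rw [map_mul]; rfl }
  -- the squaring map
  let sq0 : U ⧸ V.subgroupOf U → V := fun a => Quotient.liftOn' a (fun u => (⟨(u : X) ^ 2, u.2.2⟩ : V))
    fun u u' huu => Subtype.ext (by
      rw [QuotientGroup.leftRel_apply, mem_subgroupOf] at huu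
      set v := ((u⁻¹ * u' : U) : X)
      show (u : X) ^ 2 = (u' : X) ^ 2
      have hu' : (u' : X) = (u : X) * v := by simp [v]
      rw [hu', (hVcen v huu u (hUP u.2)).mul_pow, show v ^ 2 = 1 from huu, mul_one])
  have sq0_mk : ∀ u : U, (sq0 (u : U ⧸ V.subgroupOf U) : X) = (u : X) ^ 2 := fun u => rfl
  have hrev : ∀ v : V, v * v = 1 := fun v => Subtype.ext (by rw [Subgroup.coe_mul, ← pow_two]; exact v.2)
  let D : QuadDat (X ⧸ P) (Additive (U ⧸ V.subgroupOf U)) (Additive V) :=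
    { sq := fun w => Additive.ofMul (sq0 w.toMul)
      x := π x
      r := r
      rpos := hr.pos
      twoW := fun w => by
        obtain ⟨u, hu⟩ := QuotientGroup.mk_surjective w.toMul
        show Additive.ofMul (w.toMul * w.toMul) = 0
        rw [← hu, ← QuotientGroup.mk_mul, (QuotientGroup.eq_one_iff _).mpr]
        · rfl
        · rw [mem_subgroupOf, Subgroup.coe_mul, ← pow_two]
          exact u.2.2
      twoV := fun v => by
        show Additive.ofMul (v.toMul * v.toMul) = 0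
        rw [hrev]; rfl
      anis := fun w hw => by
        obtain ⟨u, hu⟩ := QuotientGroup.mk_surjective w.toMul
        have h1 : sq0 w.toMul = 1 := congrArg Additive.toMul hw
        rw [← hu] at h1
        have h2 : (u : X) ^ 2 = 1 := congrArg Subtype.val h1
        have h3 : w.toMul = 1 := hu ▸ (QuotientGroup.eq_one_iff _).mpr (mem_subgroupOf.mpr h2)
        exact congrArg Additive.ofMul h3
      bil := fun w1 w2 w3 => by
        obtain ⟨a, ha⟩ := QuotientGroup.mk_surjective w1.toMul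
        obtain ⟨b, hb⟩ := QuotientGroup.mk_surjective w2.toMul
        obtain ⟨c, hc⟩ := QuotientGroup.mk_surjective w3.toMul
        show Additive.ofMul (sq0 (w1.toMul * w2.toMul * w3.toMul) * sq0 (w1.toMul * w2.toMul) * sq0 w3.toMul) =
          Additive.ofMul ((sq0 (w1.toMul * w3.toMul) * sq0 w1.toMul * sq0 w3.toMul) *
            (sq0 (w2.toMul * w3.toMul) * sq0 w2.toMul * sq0 w3.toMul))
        rw [← ha, ← hb, ← hc, ← QuotientGroup.mk_mul, ← QuotientGroup.mk_mul, ← QuotientGroup.mk_mul,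
          ← QuotientGroup.mk_mul]
        congr 1
        have key : ∀ k l : U, ∃ d : V, sq0 ((k * l : U) : U ⧸ V.subgroupOf U) * sq0 (k : U ⧸ V.subgroupOf U) *
            sq0 (l : U ⧸ V.subgroupOf U) = d ∧ (d : X) = (k : X)⁻¹ * l * k * (l : X)⁻¹ := by
          intro k l
          have hd : (k : X)⁻¹ * l * k * (l : X)⁻¹ ∈ V := by
            have := hcommV _ (inv_mem k.2.1) (by rw [inv_pow]; exact inv_mem k.2.2) _ (hUP l.2)
            simpa using this
          refine ⟨⟨_, hd⟩, ?_, rfl⟩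
          have e1 : sq0 ((k * l : U) : U ⧸ V.subgroupOf U) = sq0 (k : U ⧸ V.subgroupOf U) * ⟨_, hd⟩ *
              sq0 (l : U ⧸ V.subgroupOf U) := Subtype.ext (by
            simp only [Subgroup.coe_mul, sq0_mk, pow_two]; group)
          rw [e1]
          calc sq0 (k : U ⧸ V.subgroupOf U) * ⟨_, hd⟩ * sq0 (l : U ⧸ V.subgroupOf U) *
              sq0 (k : U ⧸ V.subgroupOf U) * sq0 (l : U ⧸ V.subgroupOf U)
              = (sq0 (k : U ⧸ V.subgroupOf U) * sq0 (k : U ⧸ V.subgroupOf U)) *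
                (sq0 (l : U ⧸ V.subgroupOf U) * sq0 (l : U ⧸ V.subgroupOf U)) * ⟨_, hd⟩ := by ac_rfl
            _ = ⟨_, hd⟩ := by rw [hrev, hrev, one_mul, one_mul]
        obtain ⟨d1, hd1, hd1'⟩ := key (a * b) c
        obtain ⟨d2, hd2, hd2'⟩ := key a c
        obtain ⟨d3, hd3, hd3'⟩ := key b c
        rw [hd1, hd2, hd3]
        apply Subtype.ext
        rw [Subgroup.coe_mul, hd1', hd2', hd3', Subgroup.coe_mul]
        have h2m : (a : X)⁻¹ * c * a * (c : X)⁻¹ ∈ V := hd2' ▸ d2.2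
        have e : ((a : X) * b)⁻¹ * c * (a * b) * (c : X)⁻¹ =
            (b : X)⁻¹ * ((a : X)⁻¹ * c * a * (c : X)⁻¹) * (b : X)⁻¹⁻¹ * ((b : X)⁻¹ * c * b * (c : X)⁻¹) := by
          group
        rw [e, (hVcen _ h2m _ (inv_mem (hUP b.2))).eq, mul_inv_cancel_right]
      equiv := fun g w => by
        obtain ⟨g, rfl⟩ := QuotientGroup.mk'_surjective P g
        obtain ⟨u, hu⟩ := QuotientGroup.mk_surjective w.toMul
        show Additive.ofMul (sq0 (actW g w.toMul)) = Additive.ofMul (actV g (sq0 w.toMul))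
        rw [← hu]
        congr 1
        apply Subtype.ext
        rw [actW_mk, sq0_mk, MulAut.conjNormal_apply]
        show _ = g * (sq0 (u : U ⧸ V.subgroupOf U) : X) * g⁻¹
        rw [sq0_mk, conj_pow]
      norm := fun v => by
        set t := ∑ i ∈ Finset.range r, π x ^ i • v with ht
        have hr' : π x ^ r • v = v := by
          rw [← map_pow]
          refine congrArg Additive.ofMul (Subtype.ext ?_)
          show x ^ r * (v.toMul : X) * (x ^ r)⁻¹ = v.toMul
          rw [← mem_centralizer_iff.mp hxr _ v.toMul.2, mul_inv_cancel_right]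
        have hxt : π x • t = t := by
          rw [ht, Finset.smul_sum]
          simp only [← mul_smul, ← pow_succ']
          have h1 := Finset.sum_range_succ' (fun i => π x ^ i • v) r
          have h2 := Finset.sum_range_succ (fun i => π x ^ i • v) r
          rw [h2, hr', pow_zero, one_smul] at h1
          exact (add_right_cancel h1).symm
        have h3 : x * (t.toMul : X) * x⁻¹ = t.toMul := congrArg (fun s : Additive V => ((s.toMul : V) : X)) hxt
        have h4 : t.toMul = 1 := Subtype.ext (hxfix _ t.toMul.2 (mul_inv_eq_iff_eq_mul.mp h3))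
        exact congrArg Additive.ofMul h4 }
  have hCV : ∀ g ∈ Cb, ∀ v : Additive V, g • v = v := by
    rintro _ ⟨g, hg, rfl⟩ v
    refine congrArg Additive.ofMul (Subtype.ext ?_)
    show g * (v.toMul : X) * g⁻¹ = v.toMul
    rw [← mem_centralizer_iff.mp hg _ v.toMul.2, mul_inv_cancel_right]
  refine false_of_conf (D := D) (E := E) (Q := Q) (q := q)
    { prime := hr
      qprime := hq
      qodd := hqodd
      xord := ?_
      ecomm := fun e he f hf => he.2.1 f hf.1
      esq := fun e he => he.2.2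
      enorm := hEx
      esurj := hEsurj
      qgroup := hQgrp
      qx := hQx
      qe := hQe
      minimal := fun K' hK' hne hKx hKe => ?_
      noncentral := fun hall => ?_
      qV := fun a ha => hCV a (map_subtype_le _ (hQle ha))
      eV := fun e he => hCV e (Subgroup.map_mono hSC he.1)
      faithful := ?_ }
  · obtain ⟨n, hn⟩ := hxord
    exact ⟨n, by rw [show D.x = π x from rfl, ← map_pow, show D.r = r from rfl, hn, map_one]⟩
  · by_contra hcon
    push Not at hcon
    exact hne (le_antisymm hK' (hQmin ⟨hK'.trans hQle, hKx, hKe, hcon⟩ hK'))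
  · obtain ⟨e, he, a, ha, hne⟩ := hQnc
    exact hne (hall e he a ha)
  · intro a ha hfixW
    obtain ⟨g, rfl⟩ := QuotientGroup.mk'_surjective P a
    obtain ⟨n, b, hb, hgn⟩ := Nat.exists_eq_pow_mul_and_not_dvd (orderOf_pos g).ne' 2 (by omega)
    obtain ⟨k, hk⟩ := hQgrp ⟨_, ha⟩
    have hk' : π g ^ q ^ k = 1 := congrArg Subtype.val hk
    -- replace `g` by its odd part
    have hbpos : 0 < b := Nat.pos_of_ne_zero fun h0 => hb (h0 ▸ dvd_zero 2)
    have hodd : Odd (orderOf (g ^ 2 ^ n)) := by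
      rw [orderOf_pow' _ (pow_ne_zero n two_ne_zero), hgn, Nat.gcd_eq_right (Dvd.intro _ rfl),
        Nat.mul_div_cancel_left _ (pow_pos two_pos n)]
      exact Nat.odd_iff.mpr (by omega)
    have hwfix : ∀ w : Additive (U ⧸ V.subgroupOf U), π (g ^ 2 ^ n) • w = w := fun w => by
      rw [map_pow]
      exact (MulAction.stabilizer (X ⧸ P) w).pow_mem (hfixW w) _
    have hvfix : ∀ v : Additive V, π (g ^ 2 ^ n) • v = v := fun v => by
      rw [map_pow]
      exact (MulAction.stabilizer (X ⧸ P) v).pow_mem (hCV _ (map_subtype_le _ (hQle ha)) v) _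
    have hPn : P.Normal := inferInstance
    have hgc : g ^ 2 ^ n ∈ centralizer (P : Set X) := by
      refine centralizes_of_sq (V := V) hP hKP hodd (fun p hp => hPn.conj_mem p hp _)
        (fun k hk => hKn.conj_mem k hk _) (fun p _ k hk => hKn.conj_mem k hk p) hcc
        (fun k hk l hl => (hKcen k hk l (hKP hl)).2) (fun v hv => hv) (fun v hv => ⟨hv, hVcen v hv⟩) ?_ ?_
      · intro v hv
        exact congrArg (fun s : Additive V => ((s.toMul : V) : X)) (hvfix (Additive.ofMul ⟨v, hv⟩))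
      · intro k hk hk2
        obtain ⟨d, hd⟩ : ∃ d, k⁻¹ * (g ^ 2 ^ n * k * (g ^ 2 ^ n)⁻¹) = d := ⟨_, rfl⟩
        refine ⟨d, ?_, by rw [← hd, mul_inv_cancel_left]⟩
        have h1 := congrArg Additive.toMul (hwfix (Additive.ofMul ((⟨k, hk, hk2⟩ : U) : U ⧸ V.subgroupOf U)))
        change actW (g ^ 2 ^ n) ((⟨k, hk, hk2⟩ : U) : U ⧸ V.subgroupOf U) = _ at h1
        rw [actW_mk] at h1
        have h2 := mem_subgroupOf.mp (QuotientGroup.eq.mp h1.symm)
        rw [Subgroup.coe_mul, Subgroup.coe_inv, MulAut.conjNormal_apply] at h2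
        rwa [← hd]
    have hgP : π g ^ 2 ^ n = 1 := by
      rw [← map_pow]
      exact (QuotientGroup.eq_one_iff _).mpr (centralizer_pCore_le h hgc)
    exact orderOf_eq_one_iff.mp (Nat.eq_one_of_dvd_coprimes
      (Nat.Coprime.pow n k ((Nat.coprime_primes Nat.prime_two hq).mpr (Ne.symm hq2)))
      (orderOf_dvd_of_pow_eq_one hgP) (orderOf_dvd_of_pow_eq_one hk'))

end Cfsg.Agent.InvolTrans
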